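import Groth.Prelude.Def_EGA41
import Groth.Prelude.Def_CAlgX
import Mathlib.RingTheory.Smooth.Basic
import Mathlib.RingTheory.Ideal.Quotient.Nilpotent

/-!
# Adic formal smoothness: basic API
-/

universe u

namespace Groth.Agent.AdicFS.Basic

open Ideal

variable {A B : Type u} [CommRing A] [CommRing B] [Algebra A B]

/-- A map killing `J`-part of a power of `I` up to a nilpotent ideal kills a power of `I`. -/
lemma continuous_of_mk {C : Type u} [CommRing C] (J : Ideal C) (hJ : IsNilpotent J)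
    (f : B →+* C) {I : Ideal B} {k : ℕ} (h : ∀ x ∈ I ^ k, f x ∈ J) :
    ∃ m : ℕ, ∀ x ∈ I ^ m, f x = 0 := by
  obtain ⟨t, ht⟩ := hJ
  refine ⟨k * t, fun x hx => ?_⟩
  have h1 : (I ^ (k * t)).map f ≤ J ^ t := by
    rw [pow_mul, Ideal.map_pow]
    exact Ideal.pow_right_mono (Ideal.map_le_iff_le_comap.mpr fun x hx => h x hx) t
  have h2 := h1 (Ideal.mem_map_of_mem f hx)
  rw [ht] at h2
  simpa using h2

/-- Transport of test data along a two-step quotient. -/
lemma exists_comp_factor {R S : Type*} [CommRing R] [CommRing S] [Algebra R S] {C : Type*}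
    [CommRing C] [Algebra R C] {I J : Ideal C} (hIJ : I ≤ J) (u : S →ₐ[R] C ⧸ J) :
    ∃ e : ((C ⧸ I) ⧸ J.map (Ideal.Quotient.mk I)) ≃ₐ[R] C ⧸ J,
      ∀ c : C, e (Ideal.Quotient.mk _ (Ideal.Quotient.mk I c)) = Ideal.Quotient.mk J c :=
  ⟨{ (DoubleQuot.quotQuotEquivQuotSup I J).trans
          (Ideal.quotEquivOfEq (sup_eq_right.mpr hIJ)) with
      commutes' := fun x => rfl }, fun _ => rfl⟩

/-- Square-zero lifting implies lifting along nilpotent ideals. -/
theorem exists_lift {𝔟 : Ideal B} (h : CAlgX.IsAdicFormallySmooth A B 𝔟)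
    {C : Type u} [CommRing C] [Algebra A C] (J : Ideal C) (hJ : IsNilpotent J)
    (u : B →ₐ[A] C ⧸ J) (hu : ∃ k : ℕ, ∀ x ∈ 𝔟 ^ k, u x = 0) :
    ∃ v : B →ₐ[A] C, (Ideal.Quotient.mkₐ A J).comp v = u := by
  obtain ⟨t, ht⟩ := hJ
  have ht' : J ^ (2 ^ t) = ⊥ := by
    rw [eq_bot_iff]
    exact le_trans (Ideal.pow_le_pow_right t.lt_two_pow_self.le) ht.le
  clear ht
  induction t generalizing C with
  | zero =>
    refine h C J ?_ u hu
    rw [pow_zero, pow_one] at ht'
    subst ht'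
    exact bot_pow two_ne_zero
  | succ t ih =>
    set J' := J.map (Ideal.Quotient.mk (J ^ 2)) with hJ'
    obtain ⟨e, he⟩ := exists_comp_factor (I := J ^ 2) (Ideal.pow_le_self two_ne_zero) u
    have hJ'2 : J' ^ 2 = ⊥ := by rw [hJ', ← Ideal.map_pow, Ideal.map_quotient_self]
    obtain ⟨k, hk⟩ := hu
    obtain ⟨v', hv'⟩ := h _ J' hJ'2 (e.symm.toAlgHom.comp u) ⟨k, fun x hx => by simp [hk x hx]⟩
    have hmem : ∀ x ∈ 𝔟 ^ k, v' x ∈ J' := fun x hx => by
      rw [← Ideal.Quotient.eq_zero_iff_mem]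
      simpa [hk x hx] using DFunLike.congr_fun hv' x
    have hpow : (J ^ 2) ^ (2 ^ t) = ⊥ := by rw [← pow_mul, ← pow_succ']; exact ht'
    obtain ⟨v, hv⟩ := ih (J ^ 2) v' (continuous_of_mk J' ⟨2, hJ'2⟩ v'.toRingHom hmem) hpow
    refine ⟨v, AlgHom.ext fun b => ?_⟩
    have h1 : Ideal.Quotient.mk (J ^ 2) (v b) = v' b := DFunLike.congr_fun hv b
    have h2 : Ideal.Quotient.mk J' (v' b) = e.symm (u b) := DFunLike.congr_fun hv' b
    rw [← h1] at h2
    exact (he (v b)).symm.trans ((congrArg e h2).trans (e.apply_symm_apply _))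

/-- If a power of `𝔞` maps into `𝔟`, the topology of the base does not matter. -/
theorem isFormallySmoothAdic_iff (𝔞 : Ideal A) (𝔟 : Ideal B)
    (hAB : ∃ k : ℕ, (𝔞 ^ k).map (algebraMap A B) ≤ 𝔟) :
    EGA41.IsFormallySmoothAdic A 𝔞 B 𝔟 ↔ CAlgX.IsAdicFormallySmooth A B 𝔟 := by
  constructor
  · intro h C _ _ J hJ u hu
    refine h C J ⟨2, hJ⟩ ?_ u hu
    obtain ⟨j, hj⟩ := hAB
    obtain ⟨k, hk⟩ := hu
    obtain ⟨m, hm⟩ := continuous_of_mk J ⟨2, hJ⟩ (algebraMap A C) (I := 𝔞) (k := j * k) fun a ha => by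
      have h1 : algebraMap A B a ∈ 𝔟 ^ k := by
        refine Ideal.pow_right_mono hj k ?_
        rw [← Ideal.map_pow, ← pow_mul]
        exact Ideal.mem_map_of_mem _ ha
      have h2 := hk _ h1
      rw [AlgHom.commutes] at h2
      exact Ideal.Quotient.eq_zero_iff_mem.mp h2
    exact ⟨m, (Ideal.map_eq_bot_iff_le_ker _).mpr hm⟩
  · intro h C _ _ J hJ _ u hu
    exact exists_lift h J hJ u hu

/-- For a discrete base the two notions agree. -/
theorem isFormallySmoothAdic_bot_iff (𝔟 : Ideal B) :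
    EGA41.IsFormallySmoothAdic A ⊥ B 𝔟 ↔ CAlgX.IsAdicFormallySmooth A B 𝔟 :=
  isFormallySmoothAdic_iff ⊥ 𝔟 ⟨1, by simp⟩

/-- For a local homomorphism the topology of the base does not matter. -/
theorem isFormallySmoothAdic_maximalIdeal_iff [IsLocalRing A] [IsLocalRing B]
    [IsLocalHom (algebraMap A B)] :
    EGA41.IsFormallySmoothAdic A (IsLocalRing.maximalIdeal A) B (IsLocalRing.maximalIdeal B) ↔
      CAlgX.IsAdicFormallySmooth A B (IsLocalRing.maximalIdeal B) :=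
  isFormallySmoothAdic_iff _ _ ⟨1, by
    rw [pow_one]
    exact Ideal.map_le_iff_le_comap.mpr fun a ha => fun hu => ha (IsLocalHom.map_nonunit a hu)⟩

/-- Formally smooth for the discrete topology implies formally smooth for every topology. -/
theorem of_formallySmooth (𝔟 : Ideal B) [Algebra.FormallySmooth A B] :
    CAlgX.IsAdicFormallySmooth A B 𝔟 := fun C _ _ J hJ u _ =>
  Algebra.FormallySmooth.comp_surjective A B J hJ u

/-- Formally smooth for the discrete topology is formally smooth for `⊥`. -/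
theorem isAdicFormallySmooth_bot_iff :
    CAlgX.IsAdicFormallySmooth A B ⊥ ↔ Algebra.FormallySmooth A B := by
  refine ⟨fun h => Algebra.FormallySmooth.iff_comp_surjective.mpr fun C _ _ J hJ u =>
    h C J hJ u ⟨1, fun x hx => ?_⟩, fun h => of_formallySmooth ⊥⟩
  rw [pow_one, Ideal.mem_bot] at hx
  rw [hx, map_zero]

/-- Only the topology of `𝔟` matters. -/
theorem mono {𝔟 𝔟' : Ideal B} (hle : ∃ k : ℕ, 𝔟 ^ k ≤ 𝔟')
    (h : CAlgX.IsAdicFormallySmooth A B 𝔟) : CAlgX.IsAdicFormallySmooth A B 𝔟' := by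
  intro C _ _ J hJ u ⟨m, hm⟩
  obtain ⟨k, hk⟩ := hle
  refine h C J hJ u ⟨k * m, fun x hx => hm x ?_⟩
  rw [pow_mul] at hx
  exact Ideal.pow_right_mono hk m hx

end Groth.Agent.AdicFS.Basic
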