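import Mathlib.RingTheory.AdicCompletion.RingHom
import Mathlib.RingTheory.Ideal.Quotient.Nilpotent
import Groth.Agent.AdicFS.Basic

/-!
# Formally smooth adic algebras lift maps into complete rings (EGA 0_IV 19.3.10)
-/

set_option autoImplicit false
universe u

noncomputable section

namespace Groth.Agent.AdicFS.LiftComplete

open EGA41

variable {A B C : Type u} [CommRing A] [CommRing B] [CommRing C] [Algebra A B] [Algebra A C]
  {𝔞 : Ideal A} {𝔟 : Ideal B}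

/-- Continuity of a map into a discrete quotient. -/
def Cont (𝔟 : Ideal B) {P : Ideal C} (v : B →ₐ[A] C ⧸ P) : Prop := ∃ k : ℕ, ∀ x ∈ 𝔟 ^ k, v x = 0

theorem sup_pow_le {J I : Ideal C} {t : ℕ} (hJ : J ^ t ≤ I) : (J ⊔ I) ^ t ≤ I := by
  rw [← Ideal.mk_ker (I := I), ← Ideal.map_eq_bot_iff_le_ker, Ideal.map_pow, Ideal.map_sup, Ideal.mk_ker,
    Ideal.map_quotient_self, sup_bot_eq, ← Ideal.map_pow, eq_bot_iff, ← Ideal.map_quotient_self I]
  exact Ideal.map_mono hJ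

/-- One lifting step along `C/R → C/P ×_{C/(P+Q)} C/Q`. -/
theorem step (hB : IsFormallySmoothAdic A 𝔞 B 𝔟) {P Q R : Ideal C} (hP : R ≤ P) (hQ : R ≤ Q)
    (hnil : ∃ N : ℕ, (P ⊓ Q) ^ N ≤ R) (hA : ∃ k : ℕ, (𝔞 ^ k).map (algebraMap A C) ≤ R)
    (v : B →ₐ[A] C ⧸ P) (w : B →ₐ[A] C ⧸ Q) (hv : Cont 𝔟 v) (hw : Cont 𝔟 w)
    (hcompat : ∀ b, Ideal.Quotient.factor (le_sup_left : P ≤ P ⊔ Q) (v b) =
      Ideal.Quotient.factor (le_sup_right : Q ≤ P ⊔ Q) (w b)) :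
    ∃ v' : B →ₐ[A] C ⧸ R, Cont 𝔟 v' ∧ (∀ b, Ideal.Quotient.factor hP (v' b) = v b) ∧
      (∀ b, Ideal.Quotient.factor hQ (v' b) = w b) := by
  set K : Ideal (C ⧸ R) := (P ⊓ Q).map (Ideal.Quotient.mk R)
  have hKnil : IsNilpotent K := by
    obtain ⟨N, hN⟩ := hnil
    refine ⟨N, ?_⟩
    rw [Ideal.zero_eq_bot, eq_bot_iff, ← Ideal.map_pow, ← Ideal.map_quotient_self R]
    exact Ideal.map_mono hN
  let pP : (C ⧸ R) →ₐ[A] C ⧸ P := Ideal.Quotient.factorₐ A hP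
  let pQ : (C ⧸ R) →ₐ[A] C ⧸ Q := Ideal.Quotient.factorₐ A hQ
  let Φ : ((C ⧸ R) ⧸ K) →ₐ[A] (C ⧸ P) × (C ⧸ Q) := Ideal.Quotient.liftₐ K (pP.prod pQ) fun x hx => by
    obtain ⟨c, hc, rfl⟩ := (Ideal.mem_map_iff_of_surjective _ Ideal.Quotient.mk_surjective).mp hx
    exact Prod.ext (Ideal.Quotient.eq_zero_iff_mem.mpr hc.1) (Ideal.Quotient.eq_zero_iff_mem.mpr hc.2)
  have hΦ : Function.Injective Φ := (injective_iff_map_eq_zero _).mpr fun x hx => by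
    obtain ⟨x, rfl⟩ := Ideal.Quotient.mk_surjective x
    obtain ⟨c, rfl⟩ := Ideal.Quotient.mk_surjective x
    exact Ideal.Quotient.eq_zero_iff_mem.mpr (Ideal.mem_map_of_mem _
      ⟨Ideal.Quotient.eq_zero_iff_mem.mp (congrArg Prod.fst hx),
        Ideal.Quotient.eq_zero_iff_mem.mp (congrArg Prod.snd hx)⟩)
  have hrange : ∀ b, (v.prod w) b ∈ Φ.range := fun b => by
    obtain ⟨p, hp⟩ := Ideal.Quotient.mk_surjective (v b)
    obtain ⟨q, hq⟩ := Ideal.Quotient.mk_surjective (w b)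
    have h := hcompat b
    rw [← hp, ← hq, Ideal.Quotient.factor_mk, Ideal.Quotient.factor_mk, Ideal.Quotient.eq,
      Submodule.mem_sup] at h
    obtain ⟨y, hy, z, hz, hyz⟩ := h
    refine ⟨Ideal.Quotient.mk K (Ideal.Quotient.mk R (p - y)), Prod.ext ?_ ?_⟩
    · show Ideal.Quotient.mk P (p - y) = v b
      rw [map_sub, Ideal.Quotient.eq_zero_iff_mem.mpr hy, sub_zero, hp]
    · show Ideal.Quotient.mk Q (p - y) = w b
      rw [← hq, Ideal.Quotient.eq]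
      have : p - y - q = z := by linear_combination -hyz
      rwa [this]
  let u : B →ₐ[A] (C ⧸ R) ⧸ K :=
    (AlgEquiv.ofInjective Φ hΦ).symm.toAlgHom.comp ((v.prod w).codRestrict Φ.range hrange)
  have hu : ∀ b, Φ (u b) = (v.prod w) b := fun b =>
    congrArg Subtype.val ((AlgEquiv.ofInjective Φ hΦ).apply_symm_apply _)
  obtain ⟨i, hi⟩ := hv
  obtain ⟨j, hj⟩ := hw
  have hu0 : ∀ x ∈ 𝔟 ^ (i + j), u x = 0 := fun x hx => hΦ (by
    rw [hu, map_zero]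
    exact Prod.ext (hi x (Ideal.pow_le_pow_right (Nat.le_add_right i j) hx))
      (hj x (Ideal.pow_le_pow_right (Nat.le_add_left j i) hx)))
  obtain ⟨k, hk⟩ := hA
  obtain ⟨v', hv'⟩ := hB (C ⧸ R) K hKnil ⟨k, by
    rw [eq_bot_iff, show algebraMap A (C ⧸ R) = (Ideal.Quotient.mk R).comp (algebraMap A C) from rfl,
      ← Ideal.map_map, ← Ideal.map_quotient_self R]
    exact Ideal.map_mono hk⟩ u ⟨i + j, hu0⟩
  have hv'' : ∀ b, Ideal.Quotient.mk K (v' b) = u b := fun b => DFunLike.congr_fun hv' b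
  refine ⟨v', Basic.continuous_of_mk K hKnil v'.toRingHom (k := i + j) fun x hx => ?_,
    fun b => ?_, fun b => ?_⟩
  · exact Ideal.Quotient.eq_zero_iff_mem.mp ((hv'' x).trans (hu0 x hx))
  · have := congrArg Prod.fst (hu b)
    rw [← hv''] at this
    exact this
  · have := congrArg Prod.snd (hu b)
    rw [← hv''] at this
    exact this

/-- Lifting into a complete ring along a closed ideal whose powers tend to zero. -/
theorem exists_lift (hB : IsFormallySmoothAdic A 𝔞 B 𝔟) (𝔠 : Ideal C) [IsAdicComplete 𝔠 C]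
    (hAC : ∃ k : ℕ, (𝔞 ^ k).map (algebraMap A C) ≤ 𝔠) (J : Ideal C) (hJ : ∃ t : ℕ, J ^ t ≤ 𝔠)
    [IsHausdorff (𝔠.map (Ideal.Quotient.mk J)) (C ⧸ J)] (u : B →ₐ[A] C ⧸ J)
    (hu : ∃ k : ℕ, (𝔟 ^ k).map u.toRingHom ≤ 𝔠.map (Ideal.Quotient.mk J)) :
    ∃ v : B →ₐ[A] C, (∃ k : ℕ, (𝔟 ^ k).map v.toRingHom ≤ 𝔠) ∧
      (Ideal.Quotient.mkₐ A J).comp v = u := by
  classical
  obtain ⟨a, ha⟩ := hAC
  obtain ⟨t, ht⟩ := hJ
  obtain ⟨k, hk⟩ := hu
  have hA : ∀ n, ∃ i : ℕ, (𝔞 ^ i).map (algebraMap A C) ≤ 𝔠 ^ n := fun n => ⟨a * n, by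
    rw [pow_mul, Ideal.map_pow]; exact Ideal.pow_right_mono ha n⟩
  let un : ∀ n, B →ₐ[A] C ⧸ (J ⊔ 𝔠 ^ n) := fun n =>
    (Ideal.Quotient.factorₐ A (le_sup_left : J ≤ J ⊔ 𝔠 ^ n)).comp u
  have hun : ∀ n, Cont 𝔟 (un n) := fun n => by
    refine ⟨k * n, fun x hx => ?_⟩
    have h1 : u x ∈ (𝔠 ^ n).map (Ideal.Quotient.mk J) := by
      rw [Ideal.map_pow]
      refine Ideal.pow_right_mono hk n ?_
      rw [← Ideal.map_pow, ← pow_mul]
      exact Ideal.mem_map_of_mem _ hx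
    obtain ⟨c, hc, hcx⟩ := (Ideal.mem_map_iff_of_surjective _ Ideal.Quotient.mk_surjective).mp h1
    show Ideal.Quotient.factor (le_sup_left : J ≤ J ⊔ 𝔠 ^ n) (u x) = 0
    rw [← hcx, Ideal.Quotient.factor_mk]
    exact Ideal.Quotient.eq_zero_iff_mem.mpr (Submodule.mem_sup_right hc)
  have hfac : ∀ {I K : Ideal C} (h : I ≤ K) (c : C),
      Ideal.Quotient.factor h (Ideal.Quotient.mk I c) = Ideal.Quotient.mk K c := fun _ _ => rfl
  have hun_mk : ∀ (n : ℕ) (b : B) (q : C), Ideal.Quotient.mk J q = u b →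
      un n b = Ideal.Quotient.mk (J ⊔ 𝔠 ^ n) q := fun n b q hq => by
    show Ideal.Quotient.factor (le_sup_left : J ≤ J ⊔ 𝔠 ^ n) (u b) = _
    rw [← hq, hfac]
  -- the state at stage `n`
  let Good := fun (n : ℕ) (g : B →ₐ[A] C ⧸ 𝔠 ^ (n + 1)) => Cont 𝔟 g ∧
    ∀ b, Ideal.Quotient.factor (le_sup_right : 𝔠 ^ (n + 1) ≤ J ⊔ 𝔠 ^ (n + 1)) (g b) = un (n + 1) b
  have hbase : ∃ g, Good 0 g := by
    haveI hsub : Subsingleton (C ⧸ (⊤ : Ideal C)) := Submodule.Quotient.subsingleton_iff.mpr rfl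
    have hcont : Cont 𝔟 ((Ideal.Quotient.factorₐ A (le_top : J ≤ (⊤ : Ideal C))).comp u) :=
      ⟨0, fun x _ => @Subsingleton.elim _ hsub _ _⟩
    have hnil : ((⊤ : Ideal C) ⊓ (J ⊔ 𝔠 ^ (0 + 1))) ^ t ≤ 𝔠 ^ (0 + 1) := by
      rw [top_inf_eq, zero_add, pow_one]
      exact sup_pow_le ht
    haveI hsub2 : Subsingleton (C ⧸ ((⊤ : Ideal C) ⊔ (J ⊔ 𝔠 ^ (0 + 1)))) :=
      Submodule.Quotient.subsingleton_iff.mpr (top_sup_eq _)
    obtain ⟨g, hg, -, hgw⟩ := step hB (P := ⊤) (Q := J ⊔ 𝔠 ^ (0 + 1)) (R := 𝔠 ^ (0 + 1)) le_top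
      le_sup_right ⟨t, hnil⟩ (hA _) _ (un (0 + 1)) hcont (hun (0 + 1)) (fun b => @Subsingleton.elim _ hsub2 _ _)
    exact ⟨g, hg, hgw⟩
  have hsucc : ∀ n g, Good n g → ∃ g', Good (n + 1) g' ∧
      ∀ b, Ideal.Quotient.factor (Ideal.pow_le_pow_right (Nat.le_succ (n + 1))) (g' b) = g b := by
    intro n g ⟨hg, hgu⟩
    have hR : 𝔠 ^ (n + 1 + 1) ≤ 𝔠 ^ (n + 1) := Ideal.pow_le_pow_right (Nat.le_succ _)
    obtain ⟨g', hg', hP, hQ⟩ := step hB (P := 𝔠 ^ (n + 1)) (Q := J ⊔ 𝔠 ^ (n + 1 + 1))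
      (R := 𝔠 ^ (n + 1 + 1)) hR le_sup_right ⟨2, (Ideal.pow_right_mono inf_le_left 2).trans (by
        rw [← pow_mul]; exact Ideal.pow_le_pow_right (by omega))⟩ (hA _) g (un (n + 1 + 1)) hg (hun _)
      (fun b => by
        obtain ⟨p, hp⟩ := Ideal.Quotient.mk_surjective (g b)
        obtain ⟨q, hq⟩ := Ideal.Quotient.mk_surjective (u b)
        have h := hgu b
        rw [← hp, hun_mk _ b q hq, hfac, Ideal.Quotient.eq] at h
        rw [← hp, hun_mk _ b q hq, hfac, hfac, Ideal.Quotient.eq]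
        exact (sup_le (le_sup_left.trans le_sup_right) le_sup_left :
          J ⊔ 𝔠 ^ (n + 1) ≤ 𝔠 ^ (n + 1) ⊔ (J ⊔ 𝔠 ^ (n + 1 + 1))) h)
    exact ⟨g', ⟨hg', hQ⟩, hP⟩
  obtain ⟨g₀, hg₀⟩ := hbase
  choose next hnext using hsucc
  let seq : (n : ℕ) → {g // Good n g} := fun n =>
    Nat.rec ⟨g₀, hg₀⟩ (fun n g => ⟨next n g.1 g.2, (hnext n g.1 g.2).1⟩) n
  let f : (n : ℕ) → B →ₐ[A] C ⧸ 𝔠 ^ n := fun n =>
    (Ideal.Quotient.factorₐ A (Ideal.pow_le_pow_right (Nat.le_succ n))).comp (seq n).1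
  have hf1 : ∀ n b, Ideal.Quotient.factor (Ideal.pow_le_pow_right (Nat.le_succ n)) (f (n + 1) b) = f n b := by
    intro n b
    show _ = Ideal.Quotient.factor (Ideal.pow_le_pow_right (I := 𝔠) (Nat.le_succ n)) ((seq n).1 b)
    rw [← (hnext n (seq n).1 (seq n).2).2 b]
    rfl
  have hf : ∀ {m n : ℕ} (hle : m ≤ n),
      (Ideal.Quotient.factorₐ A (Ideal.pow_le_pow_right hle)).comp (f n) = f m := by
    intro m n hle
    refine AlgHom.ext fun b => ?_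
    induction hle with
    | refl =>
      obtain ⟨z, hz⟩ := Ideal.Quotient.mk_surjective (f m b)
      show Ideal.Quotient.factor (Ideal.pow_le_pow_right (I := 𝔠) (le_refl m)) (f m b) = f m b
      rw [← hz, hfac]
    | @step n hle ih =>
      rw [← ih]
      show Ideal.Quotient.factor (Ideal.pow_le_pow_right (I := 𝔠) (Nat.le_trans hle (Nat.le_succ n))) (f (n + 1) b) =
        Ideal.Quotient.factor (Ideal.pow_le_pow_right (I := 𝔠) hle) (f n b)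
      obtain ⟨z, hz⟩ := Ideal.Quotient.mk_surjective (f (n + 1) b)
      rw [← hf1 n b, ← hz, hfac, hfac, hfac]
  let v : B →ₐ[A] C := IsAdicComplete.liftAlgHom 𝔠 f hf
  have hv : ∀ n b, Ideal.Quotient.mk (𝔠 ^ n) (v b) = f n b := fun n b =>
    IsAdicComplete.mk_liftAlgHom 𝔠 f hf n b
  refine ⟨v, ?_, AlgHom.ext fun b => ?_⟩
  · obtain ⟨m, hm⟩ := (seq 1).2.1
    refine ⟨m, Ideal.map_le_iff_le_comap.mpr fun x hx => ?_⟩
    rw [Ideal.mem_comap, ← pow_one 𝔠, ← Ideal.Quotient.eq_zero_iff_mem]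
    refine (hv 1 x).trans ?_
    show Ideal.Quotient.factor (Ideal.pow_le_pow_right (I := 𝔠) (Nat.le_succ 1)) ((seq 1).1 x) = 0
    rw [hm x hx, map_zero]
  · refine (IsHausdorff.eq_iff_smodEq (I := 𝔠.map (Ideal.Quotient.mk J))).mpr fun n => ?_
    rw [SModEq.sub_mem, smul_eq_mul, Ideal.mul_top, ← Ideal.map_pow,
      Ideal.mem_map_iff_of_surjective _ Ideal.Quotient.mk_surjective]
    obtain ⟨q, hq⟩ := Ideal.Quotient.mk_surjective (u b)
    obtain ⟨p, hp⟩ := Ideal.Quotient.mk_surjective ((seq n).1 b)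
    have h := (seq n).2.2 b
    rw [← hp, hun_mk _ b q hq, hfac, Ideal.Quotient.eq] at h
    have h2 := hv n b
    rw [show f n b = Ideal.Quotient.factor (Ideal.pow_le_pow_right (I := 𝔠) (Nat.le_succ n)) ((seq n).1 b) from rfl, ← hp, hfac, Ideal.Quotient.eq] at h2
    have h3 : v b - q ∈ J ⊔ 𝔠 ^ n := by
      have := add_mem (Submodule.mem_sup_right h2 : v b - p ∈ J ⊔ 𝔠 ^ n)
        (sup_le_sup_left (Ideal.pow_le_pow_right (Nat.le_succ n)) J h)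
      simpa using this
    obtain ⟨y, hy, z, hz, hyz⟩ := Submodule.mem_sup.mp h3
    refine ⟨z, hz, ?_⟩
    rw [AlgHom.comp_apply, Ideal.Quotient.mkₐ_eq_mk, ← hq, ← map_sub, Ideal.Quotient.eq]
    exact (show z - (v b - q) = -y by rw [← hyz]; ring) ▸ neg_mem hy

end Groth.Agent.AdicFS.LiftComplete
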