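import Groth.Prelude.Def_EGA41
import Groth.Prelude.Def_CAlg
import Groth.Agent.AdicFS.Basic
import Groth.Agent.AdicFS.LiftComplete
import Groth.Agent.RegLoc.CoeffField
import Groth.Agent.S9455
import Mathlib

/-!
# Cohen rings lift local homomorphisms (EGA 0_IV 19.8.6)
-/

set_option autoImplicit false
universe u

open IsLocalRing

namespace Groth.Agent.AdicFS.CohenRing

/-- A Cohen ring is `p`-adically formally smooth over the integers. -/
theorem isFormallySmoothAdic (W : Type u) [CommRing W] [IsDomain W] [IsDiscreteValuationRing W]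
    [IsAdicComplete (maximalIdeal W) W] [Algebra (ULift.{u} ℤ) W] (p : ℕ) (hp : p.Prime)
    (hm : maximalIdeal W = Ideal.span {(p : W)}) :
    EGA41.IsFormallySmoothAdic (ULift.{u} ℤ) (Ideal.span {(p : ULift.{u} ℤ)}) W (maximalIdeal W) := by
  intro C _ _ J hJ ⟨k, hk⟩ u ⟨m, hu⟩
  set M := max (max k m) 1
  have hM : 1 ≤ M := le_max_right _ _
  have hpC : ((p : C)) ^ M = 0 := by
    have h1 : ((p : C)) ^ k = 0 := by
      have := Ideal.mem_map_of_mem (algebraMap (ULift.{u} ℤ) C)
        (Ideal.pow_mem_pow (Ideal.mem_span_singleton_self (p : ULift.{u} ℤ)) k)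
      rwa [hk, Ideal.mem_bot, map_pow, map_natCast] at this
    exact pow_eq_zero_of_le (le_trans (le_max_left k m) (le_max_left _ _)) h1
  set N := p ^ M with hN
  let W' := W ⧸ Ideal.span {((p : W) ^ M)}
  have hz : ((N : ℕ) : C) = 0 := by rw [hN, Nat.cast_pow]; exact hpC
  letI : Algebra (ZMod N) C := (ZMod.castHom (ringChar.dvd hz) C).toAlgebra
  letI : Algebra (ZMod N) (C ⧸ J) := ((Ideal.Quotient.mk J).comp (algebraMap (ZMod N) C)).toAlgebra
  letI : Algebra (ZMod N) W' :=
    (ZMod.castHom (ringChar.dvd (show ((N : ℕ) : W') = 0 by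
      rw [← map_natCast (Ideal.Quotient.mk _), Ideal.Quotient.eq_zero_iff_mem, hN, Nat.cast_pow]
      exact Ideal.mem_span_singleton_self _)) W').toAlgebra
  haveI : Algebra.FormallySmooth (ZMod N) W' := S9455.result W p hp hm M hM
  have hker : ∀ x ∈ Ideal.span {((p : W) ^ M)}, u x = 0 := fun x hx => hu x (by
    rw [← Ideal.span_singleton_pow, ← hm] at hx
    exact Ideal.pow_le_pow_right (le_trans (le_max_right k m) (le_max_left _ _)) hx)
  let ū : W' →ₐ[ZMod N] C ⧸ J :=
    { Ideal.Quotient.lift _ u.toRingHom hker with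
      commutes' := fun r => RingHom.congr_fun (Subsingleton.elim
        ((Ideal.Quotient.lift _ u.toRingHom hker).comp (algebraMap (ZMod N) W'))
        (algebraMap (ZMod N) (C ⧸ J))) r }
  let π : C →ₐ[ZMod N] C ⧸ J := { Ideal.Quotient.mk J with commutes' := fun _ => rfl }
  have hπ : Function.Surjective π := Ideal.Quotient.mk_surjective
  have hπn : IsNilpotent (RingHom.ker (π : C →+* C ⧸ J)) := by
    rw [show RingHom.ker (π : C →+* C ⧸ J) = J from Ideal.mk_ker]; exact hJ
  let v := Algebra.FormallySmooth.liftOfSurjective ū π hπ hπn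
  have hv : π.comp v = ū := Algebra.FormallySmooth.comp_liftOfSurjective _ _ _ _
  let v₀ : W →+* C := v.toRingHom.comp (Ideal.Quotient.mk _)
  refine ⟨{ v₀ with commutes' := fun r => RingHom.congr_fun (RingHom.ext fun z => ?_ :
      v₀.comp (algebraMap (ULift.{u} ℤ) W) = algebraMap (ULift.{u} ℤ) C) r },
    AlgHom.ext fun b => DFunLike.congr_fun hv (Ideal.Quotient.mk _ b)⟩
  rw [show z = ((ULift.down z : ℤ) : ULift.{u} ℤ) from ULift.ext _ _ (by simp), map_intCast, map_intCast]

/-- Lifting local homomorphisms out of a Cohen ring into a complete local ring. -/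
theorem exists_lift {W C : Type u} [CommRing W] [IsLocalRing W] (hW : EGA41.IsCohenRingEGA W)
    [CommRing C] [IsLocalRing C] [IsAdicComplete (maximalIdeal C) C]
    (J : Ideal C) (hJ : J ≠ ⊤) [IsHausdorff ((maximalIdeal C).map (Ideal.Quotient.mk J)) (C ⧸ J)]
    [IsLocalRing (C ⧸ J)] (u : W →+* C ⧸ J) [IsLocalHom u] :
    ∃ v : W →+* C, IsLocalHom v ∧ (Ideal.Quotient.mk J).comp v = u := by
  have hJm : J ≤ maximalIdeal C := le_maximalIdeal hJ
  haveI : IsLocalHom (Ideal.Quotient.mk J) :=
    IsLocalHom.of_surjective _ Ideal.Quotient.mk_surjective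
  have hloc : ∀ v : W →+* C, (Ideal.Quotient.mk J).comp v = u → IsLocalHom v := fun v hv => ⟨fun a ha => by
    refine (isUnit_map_iff u a).mp ?_
    rw [← hv]
    exact ha.map (Ideal.Quotient.mk J)⟩
  have hum : (maximalIdeal W).map u ≤ (maximalIdeal C).map (Ideal.Quotient.mk J) := by
    rw [Ideal.map_le_iff_le_comap]
    intro x hx
    obtain ⟨c, hc⟩ := Ideal.Quotient.mk_surjective (u x)
    rw [Ideal.mem_comap, ← hc]
    refine Ideal.mem_map_of_mem _ fun hcu => hx ((isUnit_map_iff u x).mp ?_)
    rw [← hc]; exact hcu.map _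
  rcases hW with ⟨hF, h0⟩ | ⟨hdom, hdvr, hcpl, p, hp, hm⟩
  · letI := hF.toField
    let χ : W →+* ResidueField (C ⧸ J) := (residue (C ⧸ J)).comp u
    haveI : CharZero (ResidueField (C ⧸ J)) := charZero_of_injective_ringHom χ.injective
    have hu : ∀ z : nonZeroDivisors ℤ, IsUnit (Int.castRingHom C z) := fun z => by
      refine (isUnit_map_iff (Ideal.Quotient.mk J) _).mp ?_
      rw [← IsLocalRing.notMem_maximalIdeal, ← IsLocalRing.residue_eq_zero_iff]
      simp
    letI : Algebra ℚ C := (IsLocalization.lift (S := ℚ) hu).toAlgebra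
    letI : Algebra (ULift.{u} ℚ) C := ULift.algebra' ℚ C
    letI : Algebra (ULift.{u} ℚ) W := ULift.algebra' ℚ W
    haveI : CharZero (ULift.{u} ℚ) := charZero_of_injective_algebraMap (R := ℚ) (A := ULift.{u} ℚ) (algebraMap ℚ (ULift.{u} ℚ)).injective
    haveI : Algebra.FormallySmooth (ULift.{u} ℚ) W := RegLoc.formallySmooth_of_charZero _ _
    have hbot : maximalIdeal W = ⊥ := IsLocalRing.maximalIdeal_eq_bot
    let u' : W →ₐ[ULift.{u} ℚ] C ⧸ J :=
      { toRingHom := u
        commutes' := fun r => RingHom.congr_fun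
          (show RingHom.comp u (algebraMap (ULift.{u} ℚ) W) = algebraMap (ULift.{u} ℚ) (C ⧸ J) from by
            have h := Subsingleton.elim
              ((u.comp (algebraMap (ULift.{u} ℚ) W)).comp (ULift.ringEquiv : ULift.{u} ℚ ≃+* ℚ).symm.toRingHom)
              ((algebraMap (ULift.{u} ℚ) (C ⧸ J)).comp (ULift.ringEquiv : ULift.{u} ℚ ≃+* ℚ).symm.toRingHom)
            exact RingHom.ext fun x => RingHom.congr_fun h x.down) r }
    obtain ⟨v, -, hv⟩ := LiftComplete.exists_lift (B := W)
      ((Basic.isFormallySmoothAdic_bot_iff (A := ULift.{u} ℚ) (maximalIdeal W)).mpr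
        (Basic.of_formallySmooth _)) (maximalIdeal C)
      ⟨1, by rw [pow_one, Ideal.map_bot]; exact bot_le⟩ J ⟨1, by rwa [pow_one]⟩ u'
      ⟨1, by rw [pow_one]; exact hum⟩
    exact ⟨v.toRingHom, hloc _ (congrArg AlgHom.toRingHom hv), congrArg AlgHom.toRingHom hv⟩
  · letI : Algebra (ULift.{u} ℤ) C := ULift.algebra' ℤ C
    letI : Algebra (ULift.{u} ℤ) W := ULift.algebra' ℤ W
    let u' : W →ₐ[ULift.{u} ℤ] C ⧸ J :=
      { toRingHom := u
        commutes' := fun r => by
          rw [show r = ((ULift.down r : ℤ) : ULift.{u} ℤ) from ULift.ext _ _ (by simp), map_intCast,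
            map_intCast]
          exact map_intCast u _ }
    have hpC : (p : C) ∈ maximalIdeal C := by
      intro hcu
      have h2 : IsUnit (u (p : W)) := by
        have := hcu.map (Ideal.Quotient.mk J)
        rwa [map_natCast, ← map_natCast u] at this
      exact (show (p : W) ∈ maximalIdeal W from hm ▸ Ideal.mem_span_singleton_self _)
        ((isUnit_map_iff u _).mp h2)
    obtain ⟨v, -, hv⟩ := LiftComplete.exists_lift (B := W) (isFormallySmoothAdic W p hp hm)
      (maximalIdeal C)
      ⟨1, by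
        rw [pow_one, Ideal.map_span, Set.image_singleton, map_natCast, Ideal.span_singleton_le_iff_mem]
        exact hpC⟩ J ⟨1, by rwa [pow_one]⟩ u' ⟨1, by rw [pow_one]; exact hum⟩
    exact ⟨v.toRingHom, hloc _ (congrArg AlgHom.toRingHom hv), congrArg AlgHom.toRingHom hv⟩

/-- The Noetherian case. -/
theorem exists_lift_of_noetherian {W C : Type u} [CommRing W] [IsLocalRing W] (hW : EGA41.IsCohenRingEGA W)
    [CommRing C] [IsLocalRing C] [IsNoetherianRing C] [IsAdicComplete (maximalIdeal C) C]
    (J : Ideal C) (hJ : J ≠ ⊤) [IsLocalRing (C ⧸ J)] (u : W →+* C ⧸ J) [IsLocalHom u] :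
    ∃ v : W →+* C, IsLocalHom v ∧ (Ideal.Quotient.mk J).comp v = u := by
  haveI : IsHausdorff ((maximalIdeal C).map (Ideal.Quotient.mk J)) (C ⧸ J) :=
    IsHausdorff.of_le_jacobson _ _ (by
      rw [IsLocalRing.jacobson_eq_maximalIdeal ⊥ bot_ne_top]
      refine le_maximalIdeal fun h => ?_
      have h1 : (1 : C) ∈ ((maximalIdeal C).map (Ideal.Quotient.mk J)).comap (Ideal.Quotient.mk J) := by
        rw [h]; trivial
      rw [Ideal.comap_map_of_surjective' _ Ideal.Quotient.mk_surjective, Ideal.mk_ker,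
        sup_eq_left.mpr (le_maximalIdeal hJ)] at h1
      exact (maximalIdeal.isMaximal C).ne_top ((Ideal.eq_top_iff_one _).mpr h1))
  exact exists_lift hW J hJ u

/-- An unramified local map of complete DVRs which is surjective on residue fields is bijective. -/
theorem bijective_of_map_maximalIdeal {W W' : Type u} [CommRing W] [IsDomain W] [IsDiscreteValuationRing W]
    [IsAdicComplete (maximalIdeal W) W] [CommRing W'] [IsDomain W'] [IsDiscreteValuationRing W']
    [IsAdicComplete (maximalIdeal W') W'] (v : W →+* W')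
    (hv : (maximalIdeal W).map v = maximalIdeal W')
    (hres : ∀ y, ∃ x, residue W' (v x) = y) : Function.Bijective v := by
  refine ⟨(RingHom.injective_iff_ker_eq_bot _).mpr ?_, ?_⟩
  · by_contra hne
    haveI : (RingHom.ker v).IsPrime := RingHom.ker_isPrime v
    have hmax := IsPrime.to_maximal_ideal hne
    rw [IsLocalRing.eq_maximalIdeal hmax] at hne
    have h1 : maximalIdeal W' = ⊥ := by
      rw [← hv, Ideal.map_eq_bot_iff_le_ker]
      exact (IsLocalRing.eq_maximalIdeal hmax).ge
    exact IsDiscreteValuationRing.not_a_field W' h1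
  · haveI : IsHausdorff ((maximalIdeal W).map v) W' := by rw [hv]; infer_instance
    refine surjective_of_mk_map_comp_surjective (I := maximalIdeal W) v fun y => ?_
    obtain ⟨y, rfl⟩ := Ideal.Quotient.mk_surjective y
    obtain ⟨x, hx⟩ := hres (residue W' y)
    refine ⟨x, ?_⟩
    rw [RingHom.comp_apply, Ideal.Quotient.eq, hv]
    exact Ideal.Quotient.eq.mp hx

end Groth.Agent.AdicFS.CohenRing
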