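import Groth.Agent.Nagata.Normalization
import Groth.Agent.CAlg48.CoeffField
import Groth.Agent.PSLoc.Basic
import Mathlib

/-!
# Structure of complete local rings containing a field (EGA 0_IV 19.8.8)
-/

set_option autoImplicit false
set_option linter.style.haveILetI false
universe u

open IsLocalRing

namespace Groth.Agent.AdicFS.CompleteNoether

/-- An Artinian local algebra with finite residue extension is finite. -/
theorem finite_of_residue_finite {A Q : Type*} [CommRing A] [CommRing Q] [IsLocalRing Q]
    [IsNoetherianRing Q] [Algebra A Q] {L : ℕ} (w : Fin L → Q)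
    (hres : ∀ q : Q, ∃ a : Fin L → A, q - ∑ l, a l • w l ∈ maximalIdeal Q) {k : ℕ}
    (hk : maximalIdeal Q ^ k = ⊥) : Module.Finite A Q := by
  classical
  set m := maximalIdeal Q
  have key : ∀ j i, i + j = k → (Submodule.restrictScalars A (m ^ i : Ideal Q)).FG := by
    intro j
    induction j with
    | zero =>
      intro i hi
      rw [add_zero] at hi
      rw [hi, hk, Submodule.restrictScalars_bot]
      exact Submodule.fg_bot
    | succ j ih =>
      intro i hi
      obtain ⟨t, ht⟩ := IsNoetherian.noetherian (m ^ i : Ideal Q)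
      let S : Finset Q := (Finset.univ ×ˢ t).image fun q => w q.1 * q.2
      have heq : Submodule.restrictScalars A (m ^ i : Ideal Q) =
          Submodule.span A (S : Set Q) ⊔ Submodule.restrictScalars A (m ^ (i + 1) : Ideal Q) := by
        refine le_antisymm ?_ (sup_le (Submodule.span_le.mpr fun x hx => ?_) ?_)
        · intro x hx
          have hx' : x ∈ Submodule.span Q (t : Set Q) := by rw [ht]; exact hx
          rw [Submodule.mem_span_finset] at hx'
          obtain ⟨c, -, rfl⟩ := hx'
          refine sum_mem fun y hy => ?_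
          obtain ⟨a, ha⟩ := hres (c y)
          have hy' : y ∈ m ^ i := ht ▸ Submodule.subset_span hy
          have h2 : (c y - ∑ l, a l • w l) * y ∈ m ^ (i + 1) := by
            rw [pow_succ']
            exact Ideal.mul_mem_mul ha hy'
          have h3 : c y • y = (∑ l, a l • (w l * y)) + (c y - ∑ l, a l • w l) * y := by
            rw [sub_mul, Finset.sum_mul, smul_eq_mul]
            simp only [smul_mul_assoc]
            abel
          rw [h3]
          refine Submodule.add_mem_sup (sum_mem fun l _ => Submodule.smul_mem _ _ (Submodule.subset_span ?_))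
            (show (c y - ∑ l, a l • w l) * y ∈ Submodule.restrictScalars A (m ^ (i + 1) : Ideal Q) from h2)
          exact Finset.mem_image.mpr ⟨(l, y), Finset.mem_product.mpr ⟨Finset.mem_univ l, hy⟩, rfl⟩
        · obtain ⟨q, hq, rfl⟩ := Finset.mem_image.mp hx
          exact (m ^ i).mul_mem_left _ (ht ▸ Submodule.subset_span (Finset.mem_product.mp hq).2)
        · exact fun x hx => Ideal.pow_le_pow_right (Nat.le_succ i) hx
      rw [heq]
      exact (Submodule.fg_span S.finite_toSet).sup (ih (i + 1) (by omega))
  have := key k 0 (zero_add k)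
  rw [pow_zero, Ideal.one_eq_top, Submodule.restrictScalars_top] at this
  exact ⟨this⟩

/-- Noether normalisation with constants in a subfield. -/
theorem exists_finite_injective {k₀ A : Type u} [Field k₀] [CommRing A] [IsDomain A] [IsLocalRing A]
    [IsNoetherianRing A] [IsAdicComplete (maximalIdeal A) A] [Algebra k₀ A]
    [Module.Finite k₀ (ResidueField A)] :
    ∃ (n : ℕ) (w : MvPowerSeries (Fin n) k₀ →ₐ[k₀] A), Function.Injective w ∧ IsLocalHom w.toRingHom ∧
      w.toRingHom.Finite := by
  classical
  obtain ⟨n, b, hbm, hdim, hart⟩ := Nagata.Normalization.exists_sop A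
  obtain ⟨f, hfC, hfX⟩ := Nagata.CohenLift.exists_eval k₀ (algebraMap k₀ A) b hbm
  let P := MvPowerSeries (Fin n) k₀
  have hmX : maximalIdeal P = Ideal.span (Set.range MvPowerSeries.X) := PSLoc.maximalIdeal_eq k₀
  set J := Ideal.span (Set.range b) with hJdef
  have hJ : (maximalIdeal P).map f = J := by
    rw [hmX, Ideal.map_span, ← Set.range_comp, hJdef]
    exact congrArg (fun h => Ideal.span (Set.range h)) (funext hfX)
  have hJm : J ≤ maximalIdeal A := Ideal.span_le.mpr (by rintro _ ⟨i, rfl⟩; exact hbm i)
  let w : P →ₐ[k₀] A := { f with commutes' := fun c => hfC c }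
  letI : Algebra P A := f.toAlgebra
  haveI : IsScalarTower k₀ P A := IsScalarTower.of_algebraMap_eq fun c => (hfC c).symm
  haveI : IsAdicComplete (maximalIdeal P) P := by rw [hmX]; infer_instance
  have hfin : Module.Finite P A := by
    have : IsHausdorff (maximalIdeal P) A := by
      rw [← IsHausdorff.map_algebraMap_iff (S := A)]
      exact IsHausdorff.of_le_jacobson _ _ ((hJ.le.trans hJm).trans (maximalIdeal_le_jacobson _))
    refine Adic.finite_of_finite_quot (I := maximalIdeal P) ?_
    have : Nontrivial (A ⧸ J) :=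
      Ideal.Quotient.nontrivial_iff.mpr fun h => (maximalIdeal.isMaximal A).ne_top (top_le_iff.mp (h ▸ hJm))
    have : IsLocalRing (A ⧸ J) := IsLocalRing.of_surjective' (Ideal.Quotient.mk J) Ideal.Quotient.mk_surjective
    obtain ⟨k, hk⟩ : ∃ k, maximalIdeal (A ⧸ J) ^ k = ⊥ := by
      obtain ⟨k, hk⟩ := IsArtinianRing.isNilpotent_jacobson_bot (R := A ⧸ J)
      exact ⟨k, by rwa [← IsLocalRing.jacobson_eq_maximalIdeal ⊥ bot_ne_top]⟩
    obtain ⟨L, t, ht⟩ := Module.Finite.exists_fin (R := k₀) (M := ResidueField A)
    choose v hv using fun l => residue_surjective (t l)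
    have hQ : Module.Finite P (A ⧸ J) := by
      refine finite_of_residue_finite (fun l => Ideal.Quotient.mk J (v l)) (fun q => ?_) hk
      obtain ⟨r, rfl⟩ := Ideal.Quotient.mk_surjective q
      obtain ⟨a, ha⟩ := (Submodule.mem_span_range_iff_exists_fun k₀).mp (ht.ge (Submodule.mem_top (x := residue A r)))
      refine ⟨fun l => algebraMap k₀ P (a l), ?_⟩
      have hmem : r - ∑ l, a l • v l ∈ maximalIdeal A := by
        rw [← residue_eq_zero_iff, map_sub, map_sum, sub_eq_zero, ← ha]
        refine Finset.sum_congr rfl fun l _ => ?_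
        rw [Algebra.smul_def, Algebra.smul_def, map_mul, hv]
        rfl
      simp only [algebraMap_smul]
      have e : Ideal.Quotient.mk J r - ∑ l, a l • Ideal.Quotient.mk J (v l) = Ideal.Quotient.mk J (r - ∑ l, a l • v l) := by
        rw [map_sub, map_sum]; rfl
      rw [e, mem_maximalIdeal]
      intro hu
      obtain ⟨z, hz⟩ := hu.exists_right_inv
      obtain ⟨z, rfl⟩ := Ideal.Quotient.mk_surjective z
      rw [← map_mul, ← map_one (Ideal.Quotient.mk J), Ideal.Quotient.eq] at hz
      have := sub_mem (Ideal.mul_mem_right z _ hmem) (hJm hz)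
      rw [sub_sub_cancel] at this
      exact (maximalIdeal.isMaximal A).ne_top ((Ideal.eq_top_iff_one _).mpr this)
    have heq : (maximalIdeal P • ⊤ : Submodule P A) = J.restrictScalars P := by
      rw [Ideal.smul_top_eq_map]; exact congrArg _ hJ
    exact Module.Finite.equiv ((Submodule.Quotient.restrictScalarsEquiv P J).symm.trans
      (Submodule.quotEquivOfEq _ _ heq.symm))
  have hfi : Function.Injective f := by
    rw [RingHom.injective_iff_ker_eq_bot]
    by_contra hP
    obtain ⟨x, hx, hx0⟩ := Submodule.exists_mem_ne_zero_of_ne_bot hP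
    let Q := RingHom.ker f
    let _ : Algebra (P ⧸ Q) A := (RingHom.kerLift f).toAlgebra
    have : IsScalarTower P (P ⧸ Q) A :=
      IsScalarTower.of_algebraMap_eq (R := P) (S := P ⧸ Q) (A := A) fun _ => rfl
    have : Module.Finite (P ⧸ Q) A := Module.Finite.of_restrictScalars_finite P _ _
    have : Algebra.IsIntegral (P ⧸ Q) A := Algebra.IsIntegral.of_finite _ _
    have h1 := InvQLib.FiniteFree.ringKrullDim_eq_of_integral (P ⧸ Q) A (RingHom.kerLift_injective f)
    have h2 : ringKrullDim (P ⧸ Q) + 1 ≤ ringKrullDim P :=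
      ringKrullDim_succ_le_of_surjective (Ideal.Quotient.mk Q) Ideal.Quotient.mk_surjective
        (mem_nonZeroDivisors_of_ne_zero hx0) (Ideal.Quotient.eq_zero_iff_mem.mpr hx)
    rw [← h1, hdim, PSLoc.ringKrullDim_eq k₀ n] at h2
    have h4 : n + 1 ≤ n := by exact_mod_cast h2
    omega
  refine ⟨n, w, hfi, ⟨fun a ha => ?_⟩, hfin⟩
  by_contra hna
  have h1 : f a ∈ maximalIdeal A := hJm (hJ ▸ Ideal.mem_map_of_mem f ((mem_maximalIdeal a).mpr hna))
  exact (mem_maximalIdeal _).mp h1 ha

/-- A complete Noetherian local ring containing a field is a quotient of a power series ring by an ideal in `m²`. -/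
theorem exists_presentation_minimal {A k₀ : Type u} [CommRing A] [IsLocalRing A] [IsNoetherianRing A]
    [IsAdicComplete (maximalIdeal A) A] [Field k₀] (g₀ : k₀ →+* A) :
    ∃ (n : ℕ) (f : MvPowerSeries (Fin n) (ResidueField A) →+* A), Function.Surjective f ∧
      RingHom.ker f ≤ maximalIdeal (MvPowerSeries (Fin n) (ResidueField A)) ^ 2 := by
  classical
  letI : Algebra k₀ A := g₀.toAlgebra
  obtain ⟨s, hs⟩ := CAlg48.CoeffField.exists_section_of_equichar A k₀
  let K := ResidueField A
  let bK := Module.finBasis K (CotangentSpace A)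
  choose b hb using fun i => (maximalIdeal A).toCotangent_surjective (bK i)
  obtain ⟨f, hfC, hfX⟩ := Nagata.CohenLift.exists_eval K s (fun i => (b i : A)) (fun i => (b i).2)
  have hgen : Ideal.span (Set.range fun i => (b i : A)) = maximalIdeal A := by
    refine le_antisymm (Ideal.span_le.mpr (by rintro _ ⟨i, rfl⟩; exact (b i).2)) ?_
    have htop : Submodule.span K (Set.range fun i => (maximalIdeal A).toCotangent (b i)) = ⊤ := by
      rw [show (fun i => (maximalIdeal A).toCotangent (b i)) = bK from funext hb]; exact bK.span_eq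
    have h1 := IsLocalRing.CotangentSpace.span_image_eq_top_iff.mp (by
      rw [← Set.range_comp] ; exact htop : Submodule.span K ((maximalIdeal A).toCotangent '' Set.range b) = ⊤)
    intro x hx
    have h2 : (⟨x, hx⟩ : maximalIdeal A) ∈ Submodule.span A (Set.range b) := h1.ge trivial
    have h3 := Submodule.apply_mem_span_image_of_mem_span (maximalIdeal A).subtype h2
    rwa [← Set.range_comp] at h3
  refine ⟨_, f, Nagata.CohenLift.surjective_of_gen K s (fun x => ⟨x, hs x⟩) f hfC (by simpa [hfX] using hgen), ?_⟩
  intro h hh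
  rw [RingHom.mem_ker] at hh
  have h0 : MvPowerSeries.constantCoeff h = 0 := by
    by_contra hne
    have hu : IsUnit h := MvPowerSeries.isUnit_iff_constantCoeff.mpr (isUnit_iff_ne_zero.mpr hne)
    exact not_isUnit_zero (hh ▸ hu.map f)
  have hmX : maximalIdeal (MvPowerSeries (Fin (Module.finrank K (CotangentSpace A))) K) =
      Ideal.span (Set.range MvPowerSeries.X) := PSLoc.maximalIdeal_eq K
  have hmem := Nagata.Normalization.mem_span_X h0
  obtain ⟨c, hc⟩ := Ideal.mem_span_range_iff_exists_fun.mp hmem
  rw [← hc]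
  rw [hmX, pow_two]
  refine sum_mem fun i _ => Ideal.mul_mem_mul ?_ (Ideal.subset_span ⟨i, rfl⟩)
  have hz : ∑ j, residue A (f (c j)) • bK j = 0 := by
    have hsum : ∑ j, f (c j) * (b j : A) = 0 := by
      rw [← hh, ← hc, map_sum]
      simp only [map_mul, hfX]
    have h1 : (maximalIdeal A).toCotangent (∑ j, f (c j) • b j) = 0 :=
      (Ideal.toCotangent_eq_zero _ _).mpr (by simp [hsum])
    rw [map_sum] at h1
    simp only [map_smul, hb] at h1
    simp only [← ResidueField.algebraMap_eq, IsScalarTower.algebraMap_smul]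
    exact h1
  have hci : residue A (f (c i)) = 0 := Fintype.linearIndependent_iff.mp bK.linearIndependent _ hz i
  rw [← hmX, mem_maximalIdeal]
  intro hu
  exact (mem_maximalIdeal _).mp ((residue_eq_zero_iff _).mp hci) (hu.map f)

end Groth.Agent.AdicFS.CompleteNoether
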