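import Mathlib.RingTheory.AdicCompletion.Algebra
import Mathlib.RingTheory.Kaehler.Basic
import Mathlib.RingTheory.Finiteness.Basic
import Mathlib.Algebra.TrivSqZeroExt.Basic
import Groth.Agent.Adic.Basic

/-!
# Completed Kähler differentials and formal unramifiedness for adic topologies
-/

universe u v

namespace Groth.Agent.AdicFS.Completed

open Submodule

section Module

variable {B : Type u} [CommRing B] (I : Ideal B) {M : Type v} [AddCommGroup M] [Module B M]

/-- If `range f + I M = M` and the source is precomplete, `F → M̂` is surjective. -/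
theorem surjective_of_sup_eq_top {F : Type*} [AddCommGroup F] [Module B F] [IsPrecomplete I F]
    (f : F →ₗ[B] M) (hf : LinearMap.range f ⊔ I • (⊤ : Submodule B M) = ⊤) :
    Function.Surjective ((AdicCompletion.of I M) ∘ₗ f) := by
  intro x
  let S : ℕ → Submodule B M := fun n => I ^ n • (⊤ : Submodule B M)
  have hstep : ∀ n, ∀ y ∈ S n, ∃ a ∈ I ^ n • (⊤ : Submodule B F), y - f a ∈ S (n + 1) := by
    intro n y hy
    have : S n ≤ (I ^ n • (⊤ : Submodule B F)).map f ⊔ S (n + 1) := by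
      show I ^ n • (⊤ : Submodule B M) ≤ _
      conv_lhs => rw [← hf]
      rw [Submodule.smul_sup, LinearMap.range_eq_map, ← map_smul'']
      refine sup_le le_sup_left (le_trans ?_ le_sup_right)
      rw [← Submodule.mul_smul, ← pow_succ]
    obtain ⟨_, ⟨a, ha, rfl⟩, b, hb, e⟩ := mem_sup.mp (this hy)
    exact ⟨a, ha, by rw [← e, add_sub_cancel_left]; exact hb⟩
  choose m hm using fun n => Submodule.Quotient.mk_surjective (S n) (x.val n)
  have hcomp : ∀ n, m (n + 1) - m n ∈ S n := fun n => by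
    have := x.property (Nat.le_succ n)
    rw [← hm n, ← hm (n + 1)] at this
    exact (Submodule.Quotient.eq (S n)).mp this
  -- approximations
  have hex : ∀ n (a : F), m n - f a ∈ S n → ∃ a', a' - a ∈ I ^ n • (⊤ : Submodule B F) ∧
      m (n + 1) - f a' ∈ S (n + 1) := by
    intro n a ha
    obtain ⟨d, hd, h⟩ := hstep n (m (n + 1) - f a)
      (by have := add_mem (hcomp n) ha; rwa [sub_add_sub_cancel] at this)
    refine ⟨a + d, by simpa using hd, ?_⟩
    rwa [map_add, ← sub_sub]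
  choose g hg1 hg2 using hex
  let A : ∀ n, {a : F // m n - f a ∈ S n} := fun n =>
    Nat.rec ⟨0, by simp [S]⟩ (fun k a => ⟨g k a.1 a.2, hg2 k a.1 a.2⟩) n
  have hA : ∀ n, (A (n + 1)).1 - (A n).1 ∈ I ^ n • (⊤ : Submodule B F) := fun n =>
    hg1 n (A n).1 (A n).2
  have hAle : ∀ {k n}, k ≤ n → (A n).1 - (A k).1 ∈ I ^ k • (⊤ : Submodule B F) := by
    intro k n hkn
    induction n, hkn using Nat.le_induction with
    | base => simp
    | succ n hkn ih =>
      have := add_mem (pow_smul_top_le I F hkn (hA n)) ih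
      rwa [sub_add_sub_cancel] at this
  obtain ⟨L, hL⟩ := IsPrecomplete.prec ‹IsPrecomplete I F› (f := fun n => (A n).1)
    (fun {k n} hkn => (SModEq.sub_mem.mpr (hAle hkn)).symm)
  refine ⟨L, AdicCompletion.ext fun n => ?_⟩
  rw [← hm n]
  show Submodule.Quotient.mk (f L) = _
  rw [Submodule.Quotient.eq]
  have h1 : f (A n).1 - f L ∈ S n := by
    rw [← map_sub]
    have := Submodule.mem_map_of_mem (f := f) (SModEq.sub_mem.mp (hL n))
    rw [map_smul''] at this
    exact SetLike.le_def.mp (smul_mono_right _ le_top) this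
  have := add_mem (A n).2 h1
  rw [sub_add_sub_cancel] at this
  have := neg_mem this
  rwa [neg_sub] at this

theorem finite_adicCompletion [IsPrecomplete I B]
    (h : Module.Finite B (M ⧸ (I • ⊤ : Submodule B M))) :
    Module.Finite B (AdicCompletion I M) := by
  obtain ⟨n, g, hg⟩ := Module.Finite.exists_fin' B (M ⧸ (I • ⊤ : Submodule B M))
  obtain ⟨f, hf⟩ := Module.projective_lifting_property (mkQ (I • ⊤ : Submodule B M)) g
    (mkQ_surjective _)
  have : LinearMap.range f ⊔ I • (⊤ : Submodule B M) = ⊤ := by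
    rw [eq_top_iff]
    intro x _
    obtain ⟨a, ha⟩ := hg (Submodule.Quotient.mk x)
    rw [← hf] at ha
    refine mem_sup.mpr ⟨f a, ⟨a, rfl⟩, x - f a, ?_, by abel⟩
    exact (Submodule.Quotient.eq _).mp ha.symm
  exact Module.Finite.of_surjective _ (surjective_of_sup_eq_top I f this)

theorem subsingleton_adicCompletion_iff :
    Subsingleton (AdicCompletion I M) ↔ I • (⊤ : Submodule B M) = ⊤ := by
  constructor
  · intro h
    rw [eq_top_iff]
    intro x _
    have h1 := congrArg (AdicCompletion.eval I M 1) (Subsingleton.elim (AdicCompletion.of I M x) 0)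
    rw [AdicCompletion.eval_of, map_zero, mkQ_apply, Submodule.Quotient.mk_eq_zero, pow_one] at h1
    exact h1
  · intro h
    have hn : ∀ n, (I ^ n • (⊤ : Submodule B M)) = ⊤ := fun n => by
      induction n with
      | zero => simp
      | succ n ih => rw [pow_succ, Submodule.mul_smul, h, ih]
    refine ⟨fun x y => AdicCompletion.ext fun n => ?_⟩
    have : Subsingleton (M ⧸ (I ^ n • ⊤ : Submodule B M)) :=
      Submodule.Quotient.subsingleton_iff.mpr (hn n)
    exact Subsingleton.elim _ _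

end Module

section MkHom

variable {A B : Type u} [CommRing A] [CommRing B] [Algebra A B]
variable {C : Type u} [CommRing C] [Algebra A C] [Algebra B C] [IsScalarTower A B C]
variable {N : Type u} [AddCommGroup N] [Module C N] [Module B N] [Module A N] [IsScalarTower B C N]
  [IsScalarTower A C N] [Module Cᵐᵒᵖ N] [IsCentralScalar C N] [IsScalarTower A Cᵐᵒᵖ N]

open TrivSqZeroExt in
/-- The algebra map `b ↦ b + d b` attached to a derivation. -/
def mkHom (d : Derivation A B N) : B →ₐ[A] TrivSqZeroExt C N where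
  toFun b := inl (algebraMap B C b) + inr (d b)
  map_one' := by simp
  map_mul' x y := TrivSqZeroExt.ext (by simp) (by
    simp only [snd_add, snd_inl, snd_inr, zero_add, snd_mul, fst_add, fst_inl, fst_inr, add_zero,
      d.leibniz, op_smul_eq_smul, algebraMap_smul, map_mul])
  map_zero' := by simp
  map_add' x y := TrivSqZeroExt.ext (by simp) (by simp)
  commutes' a := TrivSqZeroExt.ext
    (by simp [algebraMap_eq_inl', ← IsScalarTower.algebraMap_apply])
    (by simp [algebraMap_eq_inl'])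

open TrivSqZeroExt in
@[simp]
theorem mkHom_apply (d : Derivation A B N) (b : B) :
    mkHom (C := C) d b = inl (algebraMap B C b) + inr (d b) := rfl

end MkHom

section Unramified

variable {A B : Type u} [CommRing A] [CommRing B] [Algebra A B] (𝔞 : Ideal A) (𝔟 : Ideal B)

/-- At most one continuous lift along nilpotent thickenings of discrete algebras. -/
def Unramified : Prop :=
  ∀ (E : Type u) [CommRing E] [Algebra A E], (∃ k : ℕ, (𝔞 ^ k).map (algebraMap A E) = ⊥) →
      ∀ J : Ideal E, IsNilpotent J → ∀ v₁ v₂ : B →ₐ[A] E,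
        (∃ m : ℕ, ∀ x ∈ 𝔟 ^ m, v₁ x = 0) → (∃ m : ℕ, ∀ x ∈ 𝔟 ^ m, v₂ x = 0) →
        (∀ b : B, Ideal.Quotient.mk J (v₁ b) = Ideal.Quotient.mk J (v₂ b)) → v₁ = v₂

/-- `Ω_{B/A}` is unchanged mod `𝔟` iff the topological algebra is formally unramified. -/
theorem smul_top_eq_top_of_unramified {k : ℕ} (hk : (𝔞 ^ k).map (algebraMap A B) ≤ 𝔟)
    (h : ∀ (E : Type u) [CommRing E] [Algebra A E], (𝔞 ^ k).map (algebraMap A E) = ⊥ →
      ∀ J : Ideal E, IsNilpotent J → ∀ v₁ v₂ : B →ₐ[A] E,
        (∃ m : ℕ, ∀ x ∈ 𝔟 ^ m, v₁ x = 0) → (∃ m : ℕ, ∀ x ∈ 𝔟 ^ m, v₂ x = 0) →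
        (∀ b : B, Ideal.Quotient.mk J (v₁ b) = Ideal.Quotient.mk J (v₂ b)) → v₁ = v₂) :
    𝔟 • (⊤ : Submodule B (Ω[B⁄A])) = ⊤ := by
  let C := B ⧸ 𝔟
  let N := Ω[B⁄A] ⧸ (𝔟 • ⊤ : Submodule B (Ω[B⁄A]))
  have htors : Module.IsTorsionBySet B N (𝔟 : Set B) := fun x b => by
    obtain ⟨y, rfl⟩ := Submodule.Quotient.mk_surjective _ x
    rw [← Submodule.Quotient.mk_smul, Submodule.Quotient.mk_eq_zero]
    exact Submodule.smul_mem_smul b.2 trivial
  letI : Module C N := htors.module
  haveI : IsScalarTower B C N := htors.isScalarTower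
  haveI : IsScalarTower A C N := htors.isScalarTower
  letI : Module Cᵐᵒᵖ N := Module.compHom _ ((RingHom.id C).fromOpposite mul_comm)
  haveI : IsCentralScalar C N := ⟨fun _ _ => rfl⟩
  haveI : IsScalarTower A Cᵐᵒᵖ N := ⟨fun a c n => smul_assoc a c.unop n⟩
  let D : Derivation A B N :=
    (mkQ (𝔟 • ⊤ : Submodule B (Ω[B⁄A]))).compDer (KaehlerDifferential.D A B)
  let v₁ := mkHom (C := C) (N := N) (0 : Derivation A B N)
  let v₂ := mkHom (C := C) D
  have hE : (𝔞 ^ k).map (algebraMap A (TrivSqZeroExt C N)) = ⊥ := by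
    refine eq_bot_iff.mpr (Ideal.map_le_iff_le_comap.mpr fun a ha => ?_)
    show algebraMap A (TrivSqZeroExt C N) a = 0
    refine TrivSqZeroExt.ext ?_ ?_
    · simp only [TrivSqZeroExt.algebraMap_eq_inl', TrivSqZeroExt.fst_inl, TrivSqZeroExt.fst_zero]
      rw [IsScalarTower.algebraMap_apply A B C, Ideal.Quotient.algebraMap_eq,
        Ideal.Quotient.eq_zero_iff_mem.mpr (hk (Ideal.mem_map_of_mem _ ha))]
    · simp [TrivSqZeroExt.algebraMap_eq_inl']
  let J : Ideal (TrivSqZeroExt C N) := RingHom.ker (TrivSqZeroExt.fstHom A C N)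
  have hJ : IsNilpotent J := ⟨2, by
    rw [pow_two, Submodule.zero_eq_bot, eq_bot_iff, Ideal.mul_le]
    intro x hx y hy
    rw [Ideal.mem_bot]
    exact TrivSqZeroExt.ext (by simp [show x.fst = 0 from hx])
      (by simp [show x.fst = 0 from hx, show y.fst = 0 from hy])⟩
  have h1 : ∀ x ∈ 𝔟, algebraMap B C x = 0 := fun x hx => Ideal.Quotient.eq_zero_iff_mem.mpr hx
  have hcont : ∀ d : Derivation A B N, ∃ m : ℕ, ∀ x ∈ 𝔟 ^ m, mkHom (C := C) d x = 0 := fun d => ⟨2, fun x hx => by
    rw [pow_two] at hx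
    refine Submodule.mul_induction_on hx (fun a ha b hb => ?_) (fun a b ha hb => by
      rw [map_add, ha, hb, add_zero])
    rw [map_mul]
    rw [mkHom_apply, mkHom_apply, h1 a ha, h1 b hb]
    simp [TrivSqZeroExt.inr_mul_inr]⟩
  have heq := h (TrivSqZeroExt C N) hE J hJ v₁ v₂ (hcont 0) (hcont D)
    (fun b => Ideal.Quotient.eq.mpr (by show TrivSqZeroExt.fst _ = 0; simp [v₁, v₂]))
  have hD : ∀ b, D b = 0 := fun b => by
    have := congrArg TrivSqZeroExt.snd (DFunLike.congr_fun heq b)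
    simpa [v₁, v₂] using this.symm
  refine top_le_iff.mp ((KaehlerDifferential.span_range_derivation A B).symm.le.trans
    (Submodule.span_le.mpr ?_))
  rintro _ ⟨b, rfl⟩
  exact (Submodule.Quotient.mk_eq_zero _).mp (hD b)

theorem unramified_of_smul_top_eq_top
    (h : 𝔟 • (⊤ : Submodule B (Ω[B⁄A])) = ⊤) : Unramified 𝔞 𝔟 := by
  intro E _ _ _ J hJ v₁ v₂ hv₁ hv₂ heq
  revert v₁ v₂
  refine Ideal.IsNilpotent.induction_on (S := E) J hJ (P := fun {E} _ J =>
    ∀ [Algebra A E] (v₁ v₂ : B →ₐ[A] E), (∃ m : ℕ, ∀ x ∈ 𝔟 ^ m, v₁ x = 0) →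
      (∃ m : ℕ, ∀ x ∈ 𝔟 ^ m, v₂ x = 0) →
      (∀ b : B, Ideal.Quotient.mk J (v₁ b) = Ideal.Quotient.mk J (v₂ b)) → v₁ = v₂)
    ?_ ?_
  · intro E _ J hJ _ v₁ v₂ ⟨m₁, hv₁⟩ ⟨m₂, hv₂⟩ heq
    have hmem : ∀ b, v₁ b - v₂ b ∈ J := fun b => Ideal.Quotient.eq.mp (heq b)
    letI : Module B J := Module.compHom J v₁.toRingHom
    haveI : IsScalarTower A B J := IsScalarTower.of_algebraMap_smul fun a x =>
      Subtype.ext (by show v₁ (algebraMap A B a) * x.1 = a • x.1; rw [v₁.commutes, Algebra.smul_def])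
    let D : Derivation A B J :=
      Derivation.mk' ((v₁.toLinearMap - v₂.toLinearMap).codRestrict (J.restrictScalars A) hmem)
        fun x y => Subtype.ext (by
          show v₁ (x * y) - v₂ (x * y) = v₁ x * (v₁ y - v₂ y) + v₁ y * (v₁ x - v₂ x)
          have h0 : (v₁ x - v₂ x) * (v₁ y - v₂ y) = 0 := by
            rw [← Ideal.mem_bot, ← hJ, pow_two]
            exact Ideal.mul_mem_mul (hmem x) (hmem y)
          rw [map_mul, map_mul]
          linear_combination -h0)
    let L := D.liftKaehlerDifferential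
    have hker : ∀ n, (𝔟 ^ n • (⊤ : Submodule B (Ω[B⁄A]))) = ⊤ := fun n => by
      induction n with
      | zero => simp
      | succ n ih => rw [pow_succ, Submodule.mul_smul, h, ih]
    refine AlgHom.ext fun b => sub_eq_zero.mp ?_
    have hz : L (KaehlerDifferential.D A B b) = 0 := by
      have : KaehlerDifferential.D A B b ∈ 𝔟 ^ m₁ • (⊤ : Submodule B (Ω[B⁄A])) := by rw [hker m₁]; trivial
      refine Submodule.smul_induction_on this (fun a ha x _ => ?_) (fun x y hx hy => by
        rw [map_add, hx, hy, add_zero])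
      rw [map_smul]
      exact Subtype.ext (by show v₁ a * _ = 0; rw [hv₁ a ha, zero_mul])
    rw [Derivation.liftKaehlerDifferential_comp_D] at hz
    exact congrArg Subtype.val hz
  · intro E _ I J hIJ hI hJ _ v₁ v₂ hv₁ hv₂ heq
    refine hI v₁ v₂ hv₁ hv₂ fun b => ?_
    have := hJ ((Ideal.Quotient.mkₐ A I).comp v₁) ((Ideal.Quotient.mkₐ A I).comp v₂)
      (hv₁.imp fun m hm x hx => by simp [hm x hx]) (hv₂.imp fun m hm x hx => by simp [hm x hx])
      (fun b => Ideal.Quotient.eq.mpr (by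
        simpa using Ideal.mem_map_of_mem (Ideal.Quotient.mk I) (Ideal.Quotient.eq.mp (heq b))))
    exact DFunLike.congr_fun this b

theorem unramified_iff (hAB : ∃ k : ℕ, (𝔞 ^ k).map (algebraMap A B) ≤ 𝔟) :
    Unramified 𝔞 𝔟 ↔ 𝔟 • (⊤ : Submodule B (Ω[B⁄A])) = ⊤ :=
  ⟨fun h => smul_top_eq_top_of_unramified 𝔞 𝔟 hAB.choose_spec fun E _ _ hE => h E ⟨_, hE⟩,
    unramified_of_smul_top_eq_top 𝔞 𝔟⟩

end Unramified

end Groth.Agent.AdicFS.Completed
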