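import Groth.Agent.AdicFS.Basic
import Mathlib.Algebra.TrivSqZeroExt.Basic
import Mathlib.Algebra.Module.Torsion.Basic
import Mathlib.RingTheory.Derivation.Basic
import Mathlib.RingTheory.Ideal.Quotient.Operations

/-!
# Lifting derivations along adically formally smooth algebras
-/

universe u

namespace Groth.Agent.AdicFS.Deriv

open TrivSqZeroExt

variable {A B : Type u} [CommRing A] [CommRing B] [Algebra A B] {𝔟 : Ideal B}

/-- Derivations with values in modules over a quotient `C` lift along surjections. -/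
theorem exists_lift_over (h : CAlgX.IsAdicFormallySmooth A B 𝔟) (C : Type u) [CommRing C] [Algebra A C]
    [Algebra B C] [IsScalarTower A B C] (hC : ∃ k : ℕ, ∀ x ∈ 𝔟 ^ k, algebraMap B C x = 0)
    {N N' : Type u} [AddCommGroup N] [Module C N] [Module B N] [Module A N] [IsScalarTower B C N]
    [IsScalarTower A C N] [AddCommGroup N'] [Module C N'] [Module B N'] [Module A N']
    [IsScalarTower B C N'] [IsScalarTower A C N'] (f : N →ₗ[C] N') (hf : Function.Surjective f)
    (D' : Derivation A B N') : ∃ D : Derivation A B N, ∀ b, f (D b) = D' b := by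
  letI : Module Cᵐᵒᵖ N := Module.compHom _ ((RingHom.id C).fromOpposite mul_comm)
  haveI : IsCentralScalar C N := ⟨fun _ _ => rfl⟩
  letI : Module Cᵐᵒᵖ N' := Module.compHom _ ((RingHom.id C).fromOpposite mul_comm)
  haveI : IsCentralScalar C N' := ⟨fun _ _ => rfl⟩
  haveI : IsScalarTower A Cᵐᵒᵖ N := ⟨fun a c n => smul_assoc a c.unop n⟩
  haveI : IsScalarTower A Cᵐᵒᵖ N' := ⟨fun a c n => smul_assoc a c.unop n⟩
  let m : TrivSqZeroExt C N →ₐ[A] TrivSqZeroExt C N' := (TrivSqZeroExt.map f).restrictScalars A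
  have hm : Function.Surjective m := fun x => by
    obtain ⟨n, hn⟩ := hf x.snd
    exact ⟨inl x.fst + inr n, TrivSqZeroExt.ext (by simp [m, fst_map]) (by simp [m, snd_map, hn])⟩
  have hsq : RingHom.ker m ^ 2 = ⊥ := by
    rw [pow_two, eq_bot_iff, Ideal.mul_le]
    intro x hx y hy
    have hx' : (m x).fst = 0 := by rw [show m x = 0 from hx, fst_zero]
    have hy' : (m y).fst = 0 := by rw [show m y = 0 from hy, fst_zero]
    simp only [m, AlgHom.restrictScalars_apply, fst_map] at hx' hy'
    rw [Ideal.mem_bot]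
    exact TrivSqZeroExt.ext (by simp [hx']) (by simp [hx', hy'])
  let u : B →ₐ[A] TrivSqZeroExt C N' :=
    { toFun := fun b => inl (algebraMap B C b) + inr (D' b)
      map_one' := by simp
      map_mul' := fun x y => TrivSqZeroExt.ext (by simp) (by
        simp only [snd_add, snd_inl, snd_inr, zero_add, snd_mul, fst_add, fst_inl, fst_inr, add_zero,
          D'.leibniz, op_smul_eq_smul, algebraMap_smul])
      map_zero' := by simp
      map_add' := fun x y => TrivSqZeroExt.ext (by simp) (by simp)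
      commutes' := fun a => TrivSqZeroExt.ext
        (by simp [algebraMap_eq_inl', ← IsScalarTower.algebraMap_apply]) (by simp [algebraMap_eq_inl']) }
  let e := Ideal.quotientKerAlgEquivOfSurjective hm
  obtain ⟨k, hk⟩ := hC
  have hcont : ∃ j : ℕ, ∀ x ∈ 𝔟 ^ j, (e.symm.toAlgHom.comp u) x = 0 := by
    refine ⟨k + k, fun x hx => ?_⟩
    show e.symm (u x) = 0
    rw [map_eq_zero_iff e.symm e.symm.injective]
    rw [pow_add] at hx
    refine Submodule.mul_induction_on hx (fun y hy z hz => ?_) fun y z hy hz => by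
      rw [map_add, hy, hz, add_zero]
    rw [map_mul]
    exact TrivSqZeroExt.ext (by simp [u, hk y hy]) (by simp [u, hk y hy, hk z hz, snd_mul])
  obtain ⟨v, hv⟩ := h (TrivSqZeroExt C N) (RingHom.ker m) hsq (e.symm.toAlgHom.comp u) hcont
  have hv' : ∀ b, m (v b) = u b := fun b => by
    have h1 := congrArg e (DFunLike.congr_fun hv b)
    rwa [show (e.symm.toAlgHom.comp u) b = e.symm (u b) from rfl, e.apply_symm_apply,
      show e ((Ideal.Quotient.mkₐ A (RingHom.ker m)).comp v b) = m (v b) from
        Ideal.quotientKerAlgEquivOfSurjective_apply hm (v b)] at h1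
  have hfst : ∀ b, (v b).fst = algebraMap B C b := fun b => by
    have := congrArg TrivSqZeroExt.fst (hv' b)
    simpa [m, u, fst_map] using this
  refine ⟨Derivation.mk'
    { toFun := fun b => (v b).snd
      map_add' := fun x y => by simp
      map_smul' := fun a x => by simp }
    (fun x y => by simp [hfst, snd_mul, op_smul_eq_smul]), fun b => ?_⟩
  have := congrArg TrivSqZeroExt.snd (hv' b)
  simpa [m, u, snd_map] using this

/-- Derivations lift along surjections of modules killed by a power of `𝔟`. -/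
theorem exists_lift (h : CAlgX.IsAdicFormallySmooth A B 𝔟) {N N' : Type u} [AddCommGroup N]
    [Module B N] [Module A N] [IsScalarTower A B N] [AddCommGroup N'] [Module B N'] [Module A N']
    [IsScalarTower A B N'] (f : N →ₗ[B] N') (hf : Function.Surjective f) {k : ℕ}
    (hN : ∀ x ∈ 𝔟 ^ k, ∀ n : N, x • n = 0) (D' : Derivation A B N') :
    ∃ D : Derivation A B N, ∀ b, f (D b) = D' b := by
  have h1 : Module.IsTorsionBySet B N (𝔟 ^ k : Ideal B) := fun n x => hN x x.2 n
  have h2 : Module.IsTorsionBySet B N' (𝔟 ^ k : Ideal B) := fun n x => by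
    obtain ⟨n, rfl⟩ := hf n
    show (x : B) • f n = 0
    rw [← map_smul, hN x x.2 n, map_zero]
  letI : Module (B ⧸ 𝔟 ^ k) N := h1.module
  letI : Module (B ⧸ 𝔟 ^ k) N' := h2.module
  haveI : IsScalarTower B (B ⧸ 𝔟 ^ k) N := h1.isScalarTower
  haveI : IsScalarTower B (B ⧸ 𝔟 ^ k) N' := h2.isScalarTower
  haveI : IsScalarTower A (B ⧸ 𝔟 ^ k) N := h1.isScalarTower
  haveI : IsScalarTower A (B ⧸ 𝔟 ^ k) N' := h2.isScalarTower
  exact exists_lift_over h (B ⧸ 𝔟 ^ k) ⟨k, fun x hx => Ideal.Quotient.eq_zero_iff_mem.mpr hx⟩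
    (f.extendScalarsOfSurjective (R := B) (S := B ⧸ 𝔟 ^ k) Ideal.Quotient.mk_surjective) hf D'

end Groth.Agent.AdicFS.Deriv
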