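import Groth.Agent.AdicFS.SymGrCriterion
import Mathlib.RingTheory.Kaehler.Basic
import Mathlib.LinearAlgebra.TensorProduct.RightExactness

/-!
# The Jacobian criterion for adic formal smoothness (EGA 0_IV 22.6.1)
-/

universe u

noncomputable section

namespace Groth.Agent.AdicFS.Jacobian

open KaehlerDifferential TensorProduct

variable {Λ A B : Type u} [CommRing Λ] [CommRing A] [CommRing B] [Algebra Λ A] [Algebra A B]
  [Algebra Λ B] [IsScalarTower Λ A B] {J : Ideal B}

/-- Composition with a formally smooth base. -/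
theorem trans [Algebra.FormallySmooth Λ A] (h : CAlgX.IsAdicFormallySmooth A B J) :
    CAlgX.IsAdicFormallySmooth Λ B J := by
  intro E _ _ I hI u hu
  obtain ⟨w, hw⟩ := Algebra.FormallySmooth.comp_surjective Λ A I hI
    (u.comp (IsScalarTower.toAlgHom Λ A B))
  letI : Algebra A E := w.toRingHom.toAlgebra
  haveI : IsScalarTower Λ A E := IsScalarTower.of_algebraMap_eq fun l => (w.commutes l).symm
  let u' : B →ₐ[A] E ⧸ I := { u.toRingHom with commutes' := fun a => (DFunLike.congr_fun hw a).symm }
  obtain ⟨v, hv⟩ := h E I hI u' hu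
  exact ⟨v.restrictScalars Λ, AlgHom.ext fun b => DFunLike.congr_fun hv b⟩

/-- Derivations of the base extend to an adically formally smooth algebra. -/
theorem exists_extension (h : CAlgX.IsAdicFormallySmooth A B J) (C : Type u) [CommRing C] [Algebra A C]
    [Algebra Λ C] [Algebra B C] [IsScalarTower A B C] [IsScalarTower Λ A C]
    (hC : ∃ k : ℕ, ∀ x ∈ J ^ k, algebraMap B C x = 0)
    {N : Type u} [AddCommGroup N] [Module C N] [Module B N] [Module A N] [Module Λ N]
    [IsScalarTower B C N] [IsScalarTower A C N] [IsScalarTower Λ C N] (D₀ : Derivation Λ A N) :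
    ∃ D : Derivation Λ B N, ∀ a, D (algebraMap A B a) = D₀ a := by
  haveI : IsScalarTower Λ B C := IsScalarTower.of_algebraMap_eq fun l => by
    rw [IsScalarTower.algebraMap_apply Λ A C, IsScalarTower.algebraMap_apply A B C,
      ← IsScalarTower.algebraMap_apply Λ A B]
  letI : Module Cᵐᵒᵖ N := Module.compHom _ ((RingHom.id C).fromOpposite mul_comm)
  haveI : IsCentralScalar C N := ⟨fun _ _ => rfl⟩
  haveI : IsScalarTower Λ Cᵐᵒᵖ N := ⟨fun a c n => smul_assoc a c.unop n⟩
  let φ : A →ₐ[Λ] TrivSqZeroExt C N :=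
    { toFun := fun a => TrivSqZeroExt.inl (algebraMap A C a) + TrivSqZeroExt.inr (D₀ a)
      map_one' := by simp
      map_mul' := fun x y => TrivSqZeroExt.ext (by simp) (by simp [op_smul_eq_smul, D₀.leibniz])
      map_zero' := by simp
      map_add' := fun x y => TrivSqZeroExt.ext (by simp) (by simp)
      commutes' := fun l => TrivSqZeroExt.ext
        (by simp [TrivSqZeroExt.algebraMap_eq_inl', ← IsScalarTower.algebraMap_apply])
        (by simp [TrivSqZeroExt.algebraMap_eq_inl']) }
  letI : Algebra A (TrivSqZeroExt C N) := φ.toRingHom.toAlgebra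
  let p : TrivSqZeroExt C N →ₐ[A] C :=
    { (TrivSqZeroExt.fstHom Λ C N).toRingHom with
      commutes' := fun a => by
        show (TrivSqZeroExt.inl (algebraMap A C a) + TrivSqZeroExt.inr (D₀ a)).fst = _
        simp }
  have hp : Function.Surjective p := fun c => ⟨(TrivSqZeroExt.inl c : TrivSqZeroExt C N), TrivSqZeroExt.fst_inl N c⟩
  have hsq : RingHom.ker p ^ 2 = ⊥ := by
    rw [pow_two, eq_bot_iff, Ideal.mul_le]
    intro x hx y hy
    have hx' : x.fst = 0 := hx
    have hy' : y.fst = 0 := hy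
    rw [Ideal.mem_bot]
    exact TrivSqZeroExt.ext (by simp [hx']) (by simp [hx', hy'])
  let e := Ideal.quotientKerAlgEquivOfSurjective hp
  obtain ⟨k, hk⟩ := hC
  obtain ⟨v, hv⟩ := h (TrivSqZeroExt C N) (RingHom.ker p) hsq (e.symm.toAlgHom.comp (IsScalarTower.toAlgHom A B C))
    ⟨k, fun x hx => by
      show e.symm (algebraMap B C x) = 0
      rw [hk x hx, map_zero]⟩
  have hfst : ∀ b, (v b).fst = algebraMap B C b := fun b => by
    have h1 := congrArg e (DFunLike.congr_fun hv b)
    rwa [show (e.symm.toAlgHom.comp (IsScalarTower.toAlgHom A B C)) b = e.symm (algebraMap B C b) from rfl,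
      e.apply_symm_apply, show e ((Ideal.Quotient.mkₐ A (RingHom.ker p)).comp v b) = p (v b) from
        Ideal.quotientKerAlgEquivOfSurjective_apply hp (v b)] at h1
  have hΛ : ∀ l : Λ, v (algebraMap Λ B l) = algebraMap Λ (TrivSqZeroExt C N) l := fun l => by
    rw [IsScalarTower.algebraMap_apply Λ A B, v.commutes]
    exact φ.commutes l
  refine ⟨Derivation.mk'
    { toFun := fun b => (v b).snd
      map_add' := fun x y => by simp
      map_smul' := fun l x => by
        simp [Algebra.smul_def, hΛ, TrivSqZeroExt.algebraMap_eq_inl'] }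
    (fun x y => by simp [hfst, TrivSqZeroExt.snd_mul, op_smul_eq_smul]), fun a => ?_⟩
  show (v (algebraMap A B a)).snd = _
  rw [v.commutes]
  show (TrivSqZeroExt.inl (algebraMap A C a) + TrivSqZeroExt.inr (D₀ a)).snd = _
  simp

/-- (γ') for adically formally smooth algebras. -/
theorem injective_lTensor (h : CAlgX.IsAdicFormallySmooth A B J) : Function.Injective ((mapBaseChange Λ A B).lTensor (B ⧸ J)) := by
  obtain ⟨D, hD⟩ := exists_extension (Λ := Λ) h (B ⧸ J)
    ⟨1, fun x hx => Ideal.Quotient.eq_zero_iff_mem.mpr (pow_one J ▸ hx)⟩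
    (((TensorProduct.mk B (B ⧸ J) (B ⊗[A] Ω[A⁄Λ]) 1).restrictScalars A ∘ₗ
      TensorProduct.mk A B Ω[A⁄Λ] 1).compDer (D Λ A))
  let r : (B ⧸ J) ⊗[B] Ω[B⁄Λ] →ₗ[B ⧸ J] (B ⧸ J) ⊗[B] (B ⊗[A] Ω[A⁄Λ]) :=
    LinearMap.liftBaseChange (B ⧸ J) D.liftKaehlerDifferential
  refine Function.LeftInverse.injective (g := r) fun x => ?_
  have key : ∀ ω : Ω[A⁄Λ], D.liftKaehlerDifferential (map Λ Λ A B ω) = 1 ⊗ₜ[B] ((1 : B) ⊗ₜ[A] ω) := by
    intro ω
    have hω : ω ∈ Submodule.span A (Set.range (KaehlerDifferential.D Λ A)) := by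
      rw [span_range_derivation]; trivial
    induction hω using Submodule.span_induction with
    | mem y hy => obtain ⟨a, rfl⟩ := hy; rw [map_D, Derivation.liftKaehlerDifferential_comp_D, hD]; rfl
    | zero => simp
    | add a b _ _ ha hb => simp only [map_add, tmul_add, ha, hb]
    | smul a y _ ha => simp only [LinearMap.map_smul_of_tower, tmul_smul, map_smul, ha]
  induction x with
  | zero => simp
  | add a b ha hb => rw [map_add, map_add, ha, hb]
  | tmul c t =>
    induction t with
    | zero => simp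
    | add a b ha hb => rw [tmul_add, map_add, map_add, ha, hb]
    | tmul b ω =>
      rw [LinearMap.lTensor_tmul, mapBaseChange_tmul]
      show LinearMap.liftBaseChange (B ⧸ J) D.liftKaehlerDifferential (c ⊗ₜ[B] (b • map Λ Λ A B ω)) = _
      rw [LinearMap.liftBaseChange_tmul, map_smul, key, ← tmul_smul b, smul_tmul', smul_tmul',
        smul_eq_mul, mul_one, smul_eq_mul, mul_one]

omit [Algebra Λ A] [Algebra Λ B] [IsScalarTower Λ A B] in
/-- (δ) for adically formally smooth algebras. -/
theorem projective_quotient (h : CAlgX.IsAdicFormallySmooth A B J) :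
    Module.Projective (B ⧸ J) ((B ⧸ J) ⊗[B] Ω[B⁄A]) := by
  refine Module.Projective.of_lifting_property fun {N N'} _ _ _ _ f g hf => ?_
  letI : Module B N := Module.compHom N (Ideal.Quotient.mk J)
  letI : Module B N' := Module.compHom N' (Ideal.Quotient.mk J)
  haveI : IsScalarTower B (B ⧸ J) N := IsScalarTower.of_algebraMap_smul fun _ _ => rfl
  haveI : IsScalarTower B (B ⧸ J) N' := IsScalarTower.of_algebraMap_smul fun _ _ => rfl
  letI : Module A N := Module.compHom N (algebraMap A (B ⧸ J))
  letI : Module A N' := Module.compHom N' (algebraMap A (B ⧸ J))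
  haveI : IsScalarTower A (B ⧸ J) N := IsScalarTower.of_algebraMap_smul fun _ _ => rfl
  haveI : IsScalarTower A (B ⧸ J) N' := IsScalarTower.of_algebraMap_smul fun _ _ => rfl
  haveI : IsScalarTower A B N := IsScalarTower.of_algebraMap_smul fun _ _ => rfl
  haveI : IsScalarTower A B N' := IsScalarTower.of_algebraMap_smul fun _ _ => rfl
  let g' : Ω[B⁄A] →ₗ[B] N' := (g.restrictScalars B) ∘ₗ TensorProduct.mk B (B ⧸ J) Ω[B⁄A] 1
  obtain ⟨D, hD⟩ := Deriv.exists_lift_over h (B ⧸ J)
    ⟨1, fun x hx => Ideal.Quotient.eq_zero_iff_mem.mpr (pow_one J ▸ hx)⟩ f hf (g'.compDer (KaehlerDifferential.D A B))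
  refine ⟨LinearMap.liftBaseChange (B ⧸ J) D.liftKaehlerDifferential, LinearMap.ext fun t => ?_⟩
  have h1 : (f.restrictScalars B) ∘ₗ D.liftKaehlerDifferential = g' :=
    Derivation.liftKaehlerDifferential_unique _ _ (Derivation.ext fun b => by
      show f (D.liftKaehlerDifferential (KaehlerDifferential.D A B b)) = g' (KaehlerDifferential.D A B b)
      rw [Derivation.liftKaehlerDifferential_comp_D, hD]; rfl)
  induction t with
  | zero => simp
  | add a b ha hb => simp only [map_add, ha, hb]
  | tmul c ω =>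
    rw [LinearMap.comp_apply, LinearMap.liftBaseChange_tmul, map_smul,
      show f (D.liftKaehlerDifferential ω) = g' ω from DFunLike.congr_fun h1 ω]
    show c • g (1 ⊗ₜ[B] ω) = _
    rw [← map_smul, smul_tmul', smul_eq_mul, mul_one]

/-- Derivations of the base extend to modules killed by a power of `J`. -/
theorem exists_extension_killed (hΛ : CAlgX.IsAdicFormallySmooth Λ B J) (hγ : Function.Injective ((mapBaseChange Λ A B).lTensor (B ⧸ J)))
    (hδ : Module.Projective (B ⧸ J) ((B ⧸ J) ⊗[B] Ω[B⁄A])) (k : ℕ) :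
    ∀ (N : Type u) [AddCommGroup N] [Module B N] [Module A N] [Module Λ N] [IsScalarTower A B N]
      [IsScalarTower Λ B N] [IsScalarTower Λ A N], (∀ x ∈ J ^ k, ∀ n : N, x • n = 0) →
      ∀ D₀ : Derivation Λ A N, ∃ D : Derivation Λ B N, ∀ a, D (algebraMap A B a) = D₀ a := by
  induction k with
  | zero =>
    intro N _ _ _ _ _ _ _ hN D₀
    refine ⟨0, fun a => ?_⟩
    have := hN 1 (by simp) (D₀ a)
    simp only [one_smul] at this
    simp [this]
  | succ k ih =>
    intro N _ _ _ _ _ _ _ hN D₀
    set P : Submodule B N := J • ⊤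
    -- extend modulo `J N`
    letI : Module (B ⧸ J) (N ⧸ P) := inferInstance
    haveI : IsScalarTower B (B ⧸ J) (N ⧸ P) := inferInstance
    let q : Ω[A⁄Λ] →ₗ[A] N ⧸ P := (P.mkQ.restrictScalars A) ∘ₗ D₀.liftKaehlerDifferential
    let φ : (B ⧸ J) ⊗[B] (B ⊗[A] Ω[A⁄Λ]) →ₗ[B ⧸ J] N ⧸ P :=
      LinearMap.liftBaseChange (B ⧸ J) (LinearMap.liftBaseChange B q)
    have hex : Function.Exact ((mapBaseChange Λ A B).baseChange (B ⧸ J)) ((map Λ A B B).baseChange (B ⧸ J)) :=
      lTensor_exact (B ⧸ J) (exact_mapBaseChange_map Λ A B) (map_surjective Λ A B)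
    have hsurj : Function.Surjective ((map Λ A B B).baseChange (B ⧸ J)) :=
      LinearMap.lTensor_surjective _ (map_surjective Λ A B)
    have hinj : Function.Injective ((mapBaseChange Λ A B).baseChange (B ⧸ J)) := hγ
    obtain ⟨s, hs⟩ := Module.projective_lifting_property ((map Λ A B B).baseChange (B ⧸ J)) LinearMap.id hsurj
    have htfae : (Function.Injective ((mapBaseChange Λ A B).baseChange (B ⧸ J)) ∧
        ∃ s, ((map Λ A B B).baseChange (B ⧸ J)) ∘ₗ s = LinearMap.id) ↔
        (Function.Surjective ((map Λ A B B).baseChange (B ⧸ J)) ∧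
        ∃ l, l ∘ₗ (mapBaseChange Λ A B).baseChange (B ⧸ J) = LinearMap.id) := hex.split_tfae'.out 0 1
    obtain ⟨r, hr⟩ := (htfae.mp ⟨hinj, s, hs⟩).2
    let D₁ : Derivation Λ B (N ⧸ P) :=
      (((φ ∘ₗ r).restrictScalars B) ∘ₗ TensorProduct.mk B (B ⧸ J) Ω[B⁄Λ] 1).compDer (D Λ B)
    have hD₁ : ∀ a, D₁ (algebraMap A B a) = P.mkQ (D₀ a) := by
      intro a
      have h1 : (1 : B ⧸ J) ⊗ₜ[B] D Λ B (algebraMap A B a) =
          (mapBaseChange Λ A B).baseChange (B ⧸ J) (1 ⊗ₜ[B] ((1 : B) ⊗ₜ[A] D Λ A a)) := by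
        rw [LinearMap.baseChange_tmul, mapBaseChange_tmul, one_smul, map_D]
      show φ (r (1 ⊗ₜ[B] D Λ B (algebraMap A B a))) = _
      rw [h1, ← LinearMap.comp_apply r, hr, LinearMap.id_apply]
      show LinearMap.liftBaseChange (B ⧸ J) _ _ = _
      rw [LinearMap.liftBaseChange_tmul, one_smul, LinearMap.liftBaseChange_tmul, one_smul]
      show P.mkQ (D₀.liftKaehlerDifferential (D Λ A a)) = _
      rw [Derivation.liftKaehlerDifferential_comp_D]
    obtain ⟨D₂, hD₂⟩ := Deriv.exists_lift hΛ P.mkQ P.mkQ_surjective hN D₁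
    have hres : ∀ a, D₀ a - D₂ (algebraMap A B a) ∈ P := fun a => by
      rw [← Submodule.Quotient.mk_eq_zero]
      show P.mkQ (D₀ a - D₂ (algebraMap A B a)) = 0
      rw [map_sub, hD₂, hD₁, sub_self]
    let δ : Derivation Λ A P := Derivation.mk'
      { toFun := fun a => ⟨D₀ a - D₂ (algebraMap A B a), hres a⟩
        map_add' := fun a b => Subtype.ext (by simp [sub_add_sub_comm])
        map_smul' := fun l a => Subtype.ext (by
          simp [smul_sub, Algebra.smul_def l a, ← IsScalarTower.algebraMap_apply, D₂.leibniz, D₀.leibniz,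
            algebraMap_smul]) }
      (fun a b => Subtype.ext (by
        show D₀ (a * b) - D₂ (algebraMap A B (a * b)) =
          a • (D₀ b - D₂ (algebraMap A B b)) + b • (D₀ a - D₂ (algebraMap A B a))
        rw [map_mul (algebraMap A B), D₀.leibniz, D₂.leibniz, algebraMap_smul, algebraMap_smul, smul_sub, smul_sub]
        abel))
    obtain ⟨D₃, hD₃⟩ := ih P (fun x hx n => Subtype.ext (by
      have hn : (n : N) ∈ P := n.2
      show x • (n : N) = 0
      refine Submodule.smul_induction_on hn (fun y hy m _ => ?_) fun a b ha hb => ?_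
      · rw [smul_smul]; exact hN _ (pow_succ J k ▸ Ideal.mul_mem_mul hx hy) m
      · rw [smul_add, ha, hb, add_zero])) δ
    refine ⟨D₂ + (P.subtype).compDer D₃, fun a => ?_⟩
    rw [Derivation.add_apply]
    show D₂ _ + ((D₃ (algebraMap A B a) : P) : N) = _
    rw [hD₃]
    exact add_sub_cancel _ _

/-- Sufficiency in the Jacobian criterion. -/
theorem of_injective_of_projective (hΛ : CAlgX.IsAdicFormallySmooth Λ B J) (hγ : Function.Injective ((mapBaseChange Λ A B).lTensor (B ⧸ J)))
    (hδ : Module.Projective (B ⧸ J) ((B ⧸ J) ⊗[B] Ω[B⁄A])) : CAlgX.IsAdicFormallySmooth A B J := by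
  intro E _ _ I hI u ⟨k, hk⟩
  letI : Algebra Λ E := ((algebraMap A E).comp (algebraMap Λ A)).toAlgebra
  haveI : IsScalarTower Λ A E := IsScalarTower.of_algebraMap_eq fun _ => rfl
  obtain ⟨v, hv⟩ := hΛ E I hI (u.restrictScalars Λ) ⟨k, hk⟩
  have hvu : ∀ b, Ideal.Quotient.mk I (v b) = u b := fun b => DFunLike.congr_fun hv b
  have hII : ∀ x ∈ I, ∀ y ∈ I, x * y = 0 := fun x hx y hy => by
    have := Ideal.mul_mem_mul hx hy
    rwa [← pow_two, hI, Ideal.mem_bot] at this
  have hva : ∀ a, v (algebraMap A B a) - algebraMap A E a ∈ I := fun a => by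
    rw [← Ideal.Quotient.eq, hvu, u.commutes]
    rfl
  letI : Module B I := Module.compHom I v.toRingHom
  letI : Module A I := inferInstance
  haveI : IsScalarTower A B I := IsScalarTower.of_algebraMap_smul fun a i => Subtype.ext (by
    show v (algebraMap A B a) * (i : E) = a • (i : E)
    rw [Algebra.smul_def, ← sub_eq_zero, ← sub_mul]
    exact hII _ (hva a) _ i.2)
  haveI : IsScalarTower Λ B I := IsScalarTower.of_algebraMap_smul fun l i => Subtype.ext (by
    show v (algebraMap Λ B l) * (i : E) = l • (i : E)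
    rw [v.commutes, Algebra.smul_def])
  let D₀ : Derivation Λ A I := Derivation.mk'
    { toFun := fun a => ⟨v (algebraMap A B a) - algebraMap A E a, hva a⟩
      map_add' := fun a b => Subtype.ext (by simp [sub_add_sub_comm])
      map_smul' := fun l a => Subtype.ext (by
        show v (algebraMap A B (l • a)) - algebraMap A E (l • a) = l • (v (algebraMap A B a) - algebraMap A E a)
        rw [Algebra.smul_def l a, map_mul, map_mul, map_mul, ← IsScalarTower.algebraMap_apply,
          ← IsScalarTower.algebraMap_apply, v.commutes, Algebra.smul_def, mul_sub]) }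
    (fun a b => Subtype.ext (by
      show v (algebraMap A B (a * b)) - algebraMap A E (a * b) =
        a • (v (algebraMap A B b) - algebraMap A E b) + b • (v (algebraMap A B a) - algebraMap A E a)
      have := hII _ (hva a) _ (hva b)
      rw [map_mul, map_mul, map_mul, Algebra.smul_def, Algebra.smul_def]
      linear_combination (norm := ring) this))
  obtain ⟨D, hD⟩ := exists_extension_killed hΛ hγ hδ k I (fun x hx i => Subtype.ext (by
    show v x * (i : E) = 0
    exact hII _ (Ideal.Quotient.eq_zero_iff_mem.mp ((hvu x).trans (hk x hx))) _ i.2)) D₀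
  let χ : B →ₐ[A] E :=
    { toFun := fun b => v b - (D b : I)
      map_one' := by simp [D.map_one_eq_zero]
      map_mul' := fun a b => by
        have h := hII _ (D a).2 _ (D b).2
        rw [D.leibniz, map_mul]
        show v a * v b - (v a * (D b : E) + v b * (D a : E)) = _
        linear_combination (norm := ring) -h
      map_zero' := by simp
      map_add' := fun a b => by simp [add_sub_add_comm]
      commutes' := fun a => by
        show v (algebraMap A B a) - ((D (algebraMap A B a) : I) : E) = _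
        rw [hD]
        exact sub_sub_cancel _ _ }
  refine ⟨χ, AlgHom.ext fun b => ?_⟩
  show Ideal.Quotient.mk I (v b - (D b : I)) = u b
  rw [map_sub, Ideal.Quotient.eq_zero_iff_mem.mpr (D b).2, sub_zero, hvu]

end Groth.Agent.AdicFS.Jacobian
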