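import Groth.Agent.AdicFS.Deriv
import Groth.Agent.SymGr.Basic
import Groth.Prelude.Def_PP16
import Mathlib.RingTheory.Ideal.Cotangent
import Mathlib.RingTheory.Smooth.Basic

/-!
# Adic formal smoothness and the symmetric algebra of the conormal module (EGA 0_IV 19.5.4)
-/

universe u

noncomputable section

namespace Groth.Agent.AdicFS.SymGr

open Groth.Agent.SymGr

variable {A B : Type u} [CommRing A] [CommRing B] [Algebra A B] {J : Ideal B}

scoped instance isScalarTower_cotangent : IsScalarTower A (B ⧸ J) J.Cotangent :=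
  IsScalarTower.of_algebraMap_smul fun a x => by
    rw [IsScalarTower.algebraMap_apply A B (B ⧸ J), algebraMap_smul, algebraMap_smul]

local notation "T" => SymmetricAlgebra (B ⧸ J) (Ideal.Cotangent J)
local notation "T₊" => Groth.Agent.SymGr.Basic.aug (B ⧸ J) (Ideal.Cotangent J)
local notation "J'" m:arg => Ideal.map (Ideal.Quotient.mk (J ^ m)) J

lemma map_pow_self (m : ℕ) : (J' m) ^ m = ⊥ := by rw [← Ideal.map_pow, Ideal.map_quotient_self]

lemma mk_mem_J' (m : ℕ) {b : B} (hb : b ∈ J) : Ideal.Quotient.mk (J ^ m) b ∈ J' m :=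
  Ideal.mem_map_of_mem _ hb

lemma exists_rep (m : ℕ) {y : B ⧸ J ^ m} (hy : y ∈ J' m) : ∃ b ∈ J, Ideal.Quotient.mk (J ^ m) b = y :=
  (Ideal.mem_map_iff_of_surjective _ Ideal.Quotient.mk_surjective).mp hy

/-- A model of `B/J^m` by the symmetric algebra of the conormal module. -/
structure Model (A : Type u) [CommRing A] [Algebra A B] (J : Ideal B) (m : ℕ) where
  /-- The map. -/
  π : SymmetricAlgebra (B ⧸ J) J.Cotangent →ₐ[A] B ⧸ J ^ m
  hC : ∀ b : B, π (algebraMap (B ⧸ J) _ (Ideal.Quotient.mk J b)) - Ideal.Quotient.mk (J ^ m) b ∈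
    J.map (Ideal.Quotient.mk (J ^ m))
  hι : ∀ x : J, π (SymmetricAlgebra.ι (B ⧸ J) J.Cotangent (J.toCotangent x)) -
    Ideal.Quotient.mk (J ^ m) x ∈ J.map (Ideal.Quotient.mk (J ^ m)) ^ 2

namespace Model

variable {m : ℕ} (M : Model A J m)

lemma π_ι_mem (v : J.Cotangent) : M.π (SymmetricAlgebra.ι (B ⧸ J) J.Cotangent v) ∈ J' m := by
  obtain ⟨x, rfl⟩ := J.toCotangent_surjective v
  have h := Ideal.pow_le_self two_ne_zero (M.hι x)
  simpa using add_mem h (mk_mem_J' m x.2)

lemma map_aug : (T₊).map M.π = J' m := by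
  refine le_antisymm ?_ ?_
  · rw [Basic.aug_eq_span, Ideal.map_span, Ideal.span_le]
    rintro _ ⟨_, ⟨v, rfl⟩, rfl⟩
    exact M.π_ι_mem v
  · set N := (T₊).map M.π
    have h1 : J' m ≤ N ⊔ (J' m) ^ 2 := by
      intro y hy
      obtain ⟨b, hb, rfl⟩ := exists_rep m hy
      have h2 : M.π (SymmetricAlgebra.ι (B ⧸ J) _ (J.toCotangent ⟨b, hb⟩)) ∈ N :=
        Ideal.mem_map_of_mem _ (Basic.ι_mem_aug _ _)
      have := Submodule.add_mem_sup h2 (neg_mem (M.hι ⟨b, hb⟩))
      simpa using this
    have h2 : ∀ k, J' m ≤ N ⊔ (J' m) ^ (k + 1) := by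
      intro k
      induction k with
      | zero => rw [pow_one]; exact le_sup_right
      | succ k ih =>
        refine h1.trans (sup_le le_sup_left ?_)
        calc (J' m) ^ 2 = J' m * J' m := pow_two _
          _ ≤ J' m * (N ⊔ (J' m) ^ (k + 1)) := Ideal.mul_mono_right ih
          _ ≤ N ⊔ (J' m) ^ (k + 1 + 1) := by
            rw [Ideal.mul_sup, ← pow_succ']
            exact sup_le_sup_right Ideal.mul_le_right _
    refine (h2 m).trans ?_
    rw [pow_succ, map_pow_self]
    simp

lemma surjective : Function.Surjective M.π := by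
  suffices ∀ k, ∀ y : B ⧸ J ^ m, ∃ t, y - M.π t ∈ (J' m) ^ k by
    intro y
    obtain ⟨t, ht⟩ := this m y
    rw [map_pow_self, Ideal.mem_bot, sub_eq_zero] at ht
    exact ⟨t, ht.symm⟩
  intro k
  induction k with
  | zero => exact fun y => ⟨0, by simp⟩
  | succ k ih =>
    intro y
    obtain ⟨t, ht⟩ := ih y
    suffices ∀ z ∈ (J' m) ^ k, ∃ t, z - M.π t ∈ (J' m) ^ (k + 1) by
      obtain ⟨t', ht'⟩ := this _ ht
      exact ⟨t + t', by rwa [map_add, ← sub_sub]⟩
    intro z hz
    rw [← M.map_aug, ← Ideal.map_pow, Ideal.map] at hz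
    induction hz using Submodule.span_induction with
    | mem w hw =>
      obtain ⟨t, -, rfl⟩ := hw
      exact ⟨t, by simp⟩
    | zero => exact ⟨0, by simp⟩
    | add a b _ _ ha hb =>
      obtain ⟨s, hs⟩ := ha
      obtain ⟨s', hs'⟩ := hb
      exact ⟨s + s', by rw [map_add, add_sub_add_comm]; exact add_mem hs hs'⟩
    | smul c a hamem ha =>
      obtain ⟨s, hs⟩ := ha
      obtain ⟨b, rfl⟩ := Ideal.Quotient.mk_surjective c
      refine ⟨algebraMap (B ⧸ J) _ (Ideal.Quotient.mk J b) * s, ?_⟩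
      have hamem' : a ∈ (J' m) ^ k := by rwa [← M.map_aug, ← Ideal.map_pow]
      have h1 := Ideal.mul_mem_mul (M.hC b) hamem'
      rw [← pow_succ'] at h1
      have h2 := Ideal.mul_mem_left _ (M.π (algebraMap (B ⧸ J) _ (Ideal.Quotient.mk J b))) hs
      rw [map_mul, smul_eq_mul]
      convert sub_mem h2 h1 using 1
      ring

lemma mem_map_pow_iff {n : ℕ} {y : B ⧸ J ^ m} :
    y ∈ (J' m) ^ n ↔ ∃ t ∈ (T₊) ^ n, M.π t = y := by
  rw [← M.map_aug, ← Ideal.map_pow, Ideal.mem_map_iff_of_surjective M.π M.surjective]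

lemma pow_le_ker : (T₊) ^ m ≤ RingHom.ker M.π := fun t ht => by
  have := M.mem_map_pow_iff.mpr ⟨t, ht, rfl⟩
  rw [map_pow_self, Ideal.mem_bot] at this
  exact this

/-- Restriction to a lower level. -/
def factor (l : ℕ) (hl : l ≤ m) : Model A J l where
  π := (Ideal.Quotient.factorₐ A (Ideal.pow_le_pow_right hl)).comp M.π
  hC b := by
    have := Ideal.mem_map_of_mem (Ideal.Quotient.factor (Ideal.pow_le_pow_right hl)) (M.hC b)
    rw [Ideal.map_map, map_sub, Ideal.Quotient.factor_comp_mk] at this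
    exact this
  hι x := by
    have := Ideal.mem_map_of_mem (Ideal.Quotient.factor (Ideal.pow_le_pow_right hl)) (M.hι x)
    rw [Ideal.map_pow, Ideal.map_map, map_sub, Ideal.Quotient.factor_comp_mk] at this
    exact this

end Model

section Psi

variable (ι : Type u) [Fintype ι]

lemma prod_sub_prod_mem (S : Finset ι) {R : Type u} [CommRing R] {I : Ideal R} (a a' : ι → R)
    (ha : ∀ i, a i ∈ I) (ha' : ∀ i, a' i ∈ I) (h : ∀ i, a i - a' i ∈ I ^ 2) :
    ∏ i ∈ S, a i - ∏ i ∈ S, a' i ∈ I ^ (S.card + 1) := by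
  classical
  induction S using Finset.induction_on with
  | empty => simp
  | insert i S hi ih =>
    rw [Finset.prod_insert hi, Finset.prod_insert hi, Finset.card_insert_of_notMem hi]
    have h1 : (a i - a' i) * ∏ j ∈ S, a j ∈ I ^ (S.card + 1 + 1) := by
      rw [show S.card + 1 + 1 = 2 + S.card by ring, pow_add]
      refine Ideal.mul_mem_mul (h i) ?_
      rw [← Finset.prod_const]
      exact Ideal.prod_mem_prod fun j _ => ha j
    have h2 : a' i * (∏ j ∈ S, a j - ∏ j ∈ S, a' j) ∈ I ^ (S.card + 1 + 1) := by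
      rw [pow_succ' I]
      exact Ideal.mul_mem_mul (ha' i) ih
    convert add_mem h1 h2 using 1
    ring

variable {m : ℕ} (M : Model A J m)

lemma π_symIota_mem (s : SymmetricPower B ι J.Cotangent) :
    M.π (Basic.symIota B (B ⧸ J) J.Cotangent ι s) ∈ (J' m) ^ (Fintype.card ι) :=
  M.mem_map_pow_iff.mpr ⟨_, Basic.symIota_mem B J.Cotangent ι s, rfl⟩

variable (hm : m = (Fintype.card ι) + 1)

/-- The degree-`(Fintype.card ι)` comparison map into `B/J^((Fintype.card ι)+1)`. -/
def psi : SymmetricPower B ι J.Cotangent →ₗ[B] B ⧸ J ^ m where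
  toFun s := M.π (Basic.symIota B (B ⧸ J) J.Cotangent ι s)
  map_add' s t := by simp
  map_smul' b s := by
    have h1 := Ideal.mul_mem_mul (M.hC b) (π_symIota_mem ι M s)
    rw [← pow_succ', ← hm, map_pow_self, Ideal.mem_bot, sub_mul, sub_eq_zero] at h1
    rw [map_smul, ← algebraMap_smul (B ⧸ J) b, Algebra.smul_def, map_mul, RingHom.id_apply,
      Ideal.Quotient.algebraMap_eq, h1, Algebra.smul_def, Ideal.Quotient.algebraMap_eq]

lemma psi_tprod (x : ι → J) :
    psi ι M hm (SymmetricPower.tprod B fun i => J.toCotangent (x i)) =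
      Ideal.Quotient.mk (J ^ m) (∏ i, (x i : B)) := by
  show M.π _ = _
  rw [Basic.symIota_tprod, map_prod, map_prod, ← sub_eq_zero, ← Ideal.mem_bot, ← map_pow_self m]
  have := prod_sub_prod_mem (I := J' m) ι Finset.univ
    (fun i => M.π (SymmetricAlgebra.ι (B ⧸ J) _ (J.toCotangent (x i))))
    (fun i => Ideal.Quotient.mk (J ^ m) (x i)) (fun i => M.π_ι_mem _)
    (fun i => mk_mem_J' m (x i).2) (fun i => M.hι (x i))
  rwa [Finset.card_univ, ← hm] at this

/-- The inclusion `J^(Fintype.card ι)/J^((Fintype.card ι)+1) → B/J^((Fintype.card ι)+1)`. -/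
def emb : PP16.grJ B J (Fintype.card ι) →ₗ[B] B ⧸ J ^ m :=
  Submodule.liftQ _ ((Submodule.mkQ (J ^ m)).comp (J ^ (Fintype.card ι)).subtype) fun y hy => by
    rw [LinearMap.mem_ker, LinearMap.comp_apply, Submodule.mkQ_apply, Submodule.Quotient.mk_eq_zero,
      hm]
    exact hy

lemma emb_injective : Function.Injective (emb (J := J) ι hm) := by
  rw [injective_iff_map_eq_zero]
  intro y hy
  induction y using Submodule.Quotient.induction_on with
  | H y =>
    rw [Submodule.Quotient.mk_eq_zero]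
    have : (y : B) ∈ J ^ m := by
      rw [← Submodule.Quotient.mk_eq_zero (J ^ m)]
      exact hy
    rwa [hm] at this

lemma emb_zetaJ (x : ι → J) :
    emb ι hm (PP16.zetaJ B J x) = Ideal.Quotient.mk (J ^ m) (∏ i, (x i : B)) := rfl

lemma range_emb : LinearMap.range (emb (J := J) ι hm) = ((J' m) ^ (Fintype.card ι)).restrictScalars B := by
  ext y
  rw [Submodule.restrictScalars_mem, ← Ideal.map_pow,
    Ideal.mem_map_iff_of_surjective _ Ideal.Quotient.mk_surjective]
  constructor
  · rintro ⟨z, rfl⟩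
    induction z using Submodule.Quotient.induction_on with
    | H z => exact ⟨z, z.2, rfl⟩
  · rintro ⟨b, hb, rfl⟩
    exact ⟨Submodule.Quotient.mk ⟨b, hb⟩, rfl⟩

lemma emb_comp_eq_psi {φ : SymmetricPower B ι J.Cotangent →ₗ[B] PP16.grJ B J (Fintype.card ι)}
    (hφ : ∀ x : ι → J, φ (SymmetricPower.tprod B fun i => J.toCotangent (x i)) = PP16.zetaJ B J x) :
    (emb ι hm).comp φ = psi ι M hm := by
  refine Basic.linearMap_ext fun v => ?_
  choose x hx using fun i => J.toCotangent_surjective (v i)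
  rw [← funext hx, LinearMap.comp_apply, hφ, emb_zetaJ, psi_tprod]

end Psi

section Ker

variable {m : ℕ}

/-- `SymGrBijective` determines the kernels of the models. -/
theorem ker_eq_of_symGr (h : PP16.SymGrBijective B J) (M : Model A J m) :
    RingHom.ker M.π = (T₊) ^ m := by
  refine le_antisymm ?_ M.pow_le_ker
  intro t ht
  suffices ∀ k ≤ m, t ∈ (T₊) ^ k from this m le_rfl
  intro k hk
  induction k with
  | zero => simp
  | succ k ih =>
    have ih := ih (by omega)
    rcases Nat.eq_zero_or_pos k with rfl | hk0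
    · rw [pow_one]
      obtain ⟨b, hb⟩ := Ideal.Quotient.mk_surjective (SymmetricAlgebra.algebraMapInv t)
      have h1 := Basic.sub_algebraMapInv_mem_span J.Cotangent t
      rw [← Basic.aug_eq_span, ← hb] at h1
      have h2 := Ideal.mem_map_of_mem M.π h1
      rw [M.map_aug, map_sub, show M.π t = 0 from ht, zero_sub, neg_mem_iff] at h2
      have h3 := sub_mem h2 (M.hC b)
      rw [sub_sub_cancel] at h3
      obtain ⟨b', hb', he⟩ := exists_rep m h3
      have : Ideal.Quotient.mk J b = 0 := Ideal.Quotient.eq_zero_iff_mem.mpr <| by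
        have := sub_mem hb' (Ideal.pow_le_self (by omega) (Ideal.Quotient.eq.mp he))
        simpa using this
      show SymmetricAlgebra.algebraMapInv t = 0
      rw [← hb, this]
    · let ι := ULift.{u} (Fin k)
      have hcard : Fintype.card ι = k := by simp [ι]
      have : Nonempty ι := ⟨⟨⟨0, hk0⟩⟩⟩
      obtain ⟨φ, hφ, hbij⟩ := h ι
      obtain ⟨s, hs⟩ := Basic.exists_symIota_sub_mem (R := B) J.Cotangent Ideal.Quotient.mk_surjective ι
        (x := t) (by rw [hcard]; exact ih)
      let M' := M.factor (k + 1) hk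
      have hm : k + 1 = Fintype.card ι + 1 := by rw [hcard]
      have h0 : M'.π t = 0 := by
        show Ideal.Quotient.factorₐ A (Ideal.pow_le_pow_right hk) (M.π t) = 0
        rw [show M.π t = 0 from ht, map_zero]
      have h1 : psi ι M' hm s = 0 := by
        have := M'.pow_le_ker (hm ▸ hs)
        rw [RingHom.mem_ker, map_sub, h0, zero_sub, neg_eq_zero] at this
        exact this
      rw [← emb_comp_eq_psi ι M' hm hφ, LinearMap.comp_apply] at h1
      have h2 := emb_injective ι hm (h1.trans (map_zero _).symm)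
      have h3 : s = 0 := hbij.1 (h2.trans (map_zero φ).symm)
      rw [h3, map_zero, sub_zero, hcard] at hs
      exact hs

/-- If all models have the expected kernels then `SymGrBijective` holds. -/
theorem symGr_of_ker_eq [Module.Projective (B ⧸ J) J.Cotangent]
    (h : ∀ k, ∃ M : Model A J k, RingHom.ker M.π ≤ (T₊) ^ k) : PP16.SymGrBijective B J := by
  intro ι _ _
  obtain ⟨M, hM⟩ := h (Fintype.card ι + 1)
  have hrange : LinearMap.range (psi ι M rfl) = LinearMap.range (emb (J := J) ι rfl) := by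
    rw [range_emb]
    refine le_antisymm ?_ fun y hy => ?_
    · rintro _ ⟨s, rfl⟩
      exact π_symIota_mem ι M s
    · obtain ⟨t, ht, rfl⟩ := M.mem_map_pow_iff.mp hy
      obtain ⟨s, hs⟩ := Basic.exists_symIota_sub_mem (R := B) J.Cotangent Ideal.Quotient.mk_surjective ι ht
      have h' := M.pow_le_ker hs
      rw [RingHom.mem_ker, map_sub, sub_eq_zero] at h'
      exact ⟨s, h'.symm⟩
  let e := LinearEquiv.ofInjective _ (emb_injective (J := J) ι rfl)
  let φ := e.symm.toLinearMap.comp ((psi ι M rfl).codRestrict _ fun s => hrange ▸ LinearMap.mem_range_self _ s)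
  have key : ∀ s, emb ι rfl (φ s) = psi ι M rfl s := fun s =>
    congrArg Subtype.val (e.apply_symm_apply _)
  refine ⟨φ, fun x => emb_injective ι rfl ?_, ?_, ?_⟩
  · rw [key, psi_tprod, emb_zetaJ]
  · rw [injective_iff_map_eq_zero]
    intro s hs
    have : psi ι M rfl s = 0 := by rw [← key, hs, map_zero]
    exact Basic.eq_zero_of_symIota_mem B J.Cotangent Ideal.Quotient.mk_surjective ι (hM this)
  · intro y
    have hy : emb ι rfl y ∈ LinearMap.range (psi ι M rfl) := hrange ▸ LinearMap.mem_range_self _ y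
    obtain ⟨s, hs⟩ := hy
    exact ⟨s, emb_injective ι rfl ((key s).trans hs)⟩

end Ker

end Groth.Agent.AdicFS.SymGr
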