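import Groth.Agent.AdicFS.Completed
import Groth.Agent.AdicFS.Deriv
import Groth.Agent.AdicFS.Jacobian
import Groth.Agent.FieldSep.Cartier
import Groth.Agent.Adic.Basic
import Groth.Agent.S2471
import Mathlib

/-!
# Completed differentials of formally smooth complete local algebras (EGA 0_IV 22.4)
-/

set_option autoImplicit false
universe u

open IsLocalRing TensorProduct

noncomputable section

namespace Groth.Agent.AdicFS.CompletedFree

variable {k A : Type u} [CommRing k] [CommRing A] [IsLocalRing A] [Algebra k A]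
  [IsAdicComplete (maximalIdeal A) A]

/-- Derivations into the residue field lift to derivations of `A`. -/
theorem exists_derivation_lift (h : CAlgX.IsAdicFormallySmooth k A (maximalIdeal A))
    (d₁ : Derivation k A (A ⧸ maximalIdeal A ^ 1)) :
    ∃ D : Derivation k A A, ∀ a, Ideal.Quotient.mk (maximalIdeal A ^ 1) (D a) = d₁ a := by
  have hle : ∀ n : ℕ, maximalIdeal A ^ (n + 2) ≤ maximalIdeal A ^ (n + 1) := fun n => Ideal.pow_le_pow_right (Nat.le_succ _)
  have step : ∀ (n : ℕ) (d : Derivation k A (A ⧸ maximalIdeal A ^ (n + 1))), ∃ d' : Derivation k A (A ⧸ maximalIdeal A ^ (n + 2)),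
      ∀ a, Ideal.Quotient.factor (hle n) (d' a) = d a :=
    fun n d => Deriv.exists_lift h (N := A ⧸ maximalIdeal A ^ (n + 2)) (k := n + 2)
      (Ideal.Quotient.factorₐ A (hle n)).toLinearMap
      (Ideal.Quotient.factor_surjective (hle n))
      (fun x hx y => by
        obtain ⟨y, rfl⟩ := Ideal.Quotient.mk_surjective y
        rw [Algebra.smul_def, Ideal.Quotient.algebraMap_eq, ← map_mul, Ideal.Quotient.eq_zero_iff_mem]
        exact Ideal.mul_mem_right _ _ hx) d
  choose next hnext using step
  let s : ∀ n, Derivation k A (A ⧸ maximalIdeal A ^ (n + 1)) := fun n => Nat.rec d₁ (fun n d => next n d) n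
  have hs : ∀ n a, Ideal.Quotient.factor (hle n) (s (n + 1) a) = s n a :=
    fun n a => hnext n (s n) a
  choose g hg using fun n a => Ideal.Quotient.mk_surjective (s n a)
  have hg' : ∀ n a, g (n + 1) a - g n a ∈ maximalIdeal A ^ (n + 1) := fun n a => by
    have h1 := hs n a
    rw [← hg (n + 1) a, Ideal.Quotient.factor_mk, ← hg n a] at h1
    exact Ideal.Quotient.eq.mp h1
  have hcauchy : ∀ a, ∀ {i j : ℕ}, i ≤ j → g i a - g j a ∈ maximalIdeal A ^ i := by
    intro a i j hij
    induction j, hij using Nat.le_induction with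
    | base => simp
    | succ j hij ih =>
      have h1 := Ideal.pow_le_pow_right (hij.trans (Nat.le_succ j)) (hg' j a)
      have := sub_mem ih h1
      rwa [sub_sub_sub_cancel_right] at this
  choose L hL using fun a => IsPrecomplete.prec (I := maximalIdeal A) inferInstance (f := fun n => g n a) fun {i j} hij => by
    rw [SModEq.sub_mem, smul_eq_mul, Ideal.mul_top]
    exact hcauchy a hij
  have hL' : ∀ n a, Ideal.Quotient.mk (maximalIdeal A ^ (n + 1)) (L a) = s n a := fun n a => by
    have h1 := hL a (n + 1)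
    rw [SModEq.sub_mem, smul_eq_mul, Ideal.mul_top] at h1
    rw [← hg n a, Ideal.Quotient.eq]
    have h2 := add_mem (neg_mem h1) (hg' n a)
    have e : -(g (n + 1) a - L a) + (g (n + 1) a - g n a) = L a - g n a := by ring
    rwa [e] at h2
  have hext : ∀ x y : A, (∀ n : ℕ, Ideal.Quotient.mk (maximalIdeal A ^ (n + 1)) x = Ideal.Quotient.mk (maximalIdeal A ^ (n + 1)) y) → x = y := by
    intro x y hxy
    refine sub_eq_zero.mp (IsHausdorff.haus (I := maximalIdeal A) inferInstance _ fun n => ?_)
    rw [SModEq.zero, smul_eq_mul, Ideal.mul_top]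
    exact Ideal.pow_le_pow_right (Nat.le_succ n) (Ideal.Quotient.eq.mp (hxy n))
  have hsmul : ∀ n (a x : A), Ideal.Quotient.mk (maximalIdeal A ^ (n + 1)) (a * x) = a • Ideal.Quotient.mk (maximalIdeal A ^ (n + 1)) x :=
    fun n a x => rfl
  refine ⟨Derivation.mk'
    { toFun := L
      map_add' := fun x y => hext _ _ fun n => by rw [map_add, hL', hL', hL', map_add]
      map_smul' := fun c x => hext _ _ fun n => by
        rw [RingHom.id_apply, Algebra.smul_def c (L x), hsmul, hL', hL', algebraMap_smul, Derivation.map_smul] }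
    (fun a b => hext _ _ fun n => ?_), fun a => hL' 0 a⟩
  show Ideal.Quotient.mk _ (L (a * b)) = Ideal.Quotient.mk _ (a * L b + b * L a)
  rw [map_add, hsmul, hsmul, hL', hL', hL', (s n).leibniz]

theorem exists_equiv [IsNoetherianRing A] (h : CAlgX.IsAdicFormallySmooth k A (maximalIdeal A))
    [Module.Finite (ResidueField A) (ResidueField A ⊗[A] Ω[A⁄k])] :
    Nonempty ((Fin (Module.finrank (ResidueField A) (ResidueField A ⊗[A] Ω[A⁄k])) → A) ≃ₗ[A]
      AdicCompletion (maximalIdeal A) (Ω[A⁄k])) := by
  classical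
  set K := ResidueField A
  set V := K ⊗[A] Ω[A⁄k]
  set m := maximalIdeal A
  have hspan : ⊤ ≤ Submodule.span K (Set.range fun a : A => (1 : K) ⊗ₜ[A] KaehlerDifferential.D k A a) := by
    intro x h'
    clear h'
    induction x using TensorProduct.induction_on with
    | zero => exact zero_mem _
    | add x y hx hy => exact add_mem hx hy
    | tmul c w =>
      rw [← mul_one c, ← smul_eq_mul, ← TensorProduct.smul_tmul']
      refine Submodule.smul_mem _ c ?_
      have hw : w ∈ Submodule.span A (Set.range (KaehlerDifferential.D k A)) := by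
        rw [KaehlerDifferential.span_range_derivation]; trivial
      induction hw using Submodule.span_induction with
      | mem w hw => obtain ⟨a, rfl⟩ := hw; exact Submodule.subset_span ⟨a, rfl⟩
      | zero => simp
      | add x y _ _ hx hy => rw [TensorProduct.tmul_add]; exact add_mem hx hy
      | smul a x _ hx => rw [TensorProduct.tmul_smul]; exact Submodule.smul_of_tower_mem _ a hx
  let b₀ := Module.Basis.ofSpan hspan
  haveI : Finite _ := Module.Finite.finite_basis b₀
  haveI := Fintype.ofFinite ↑((linearIndepOn_empty K id).extend (Set.empty_subset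
    (Set.range fun a : A => (1 : K) ⊗ₜ[A] KaehlerDifferential.D k A a)))
  let b := b₀.reindex ((Fintype.equivFin _).trans (finCongr (Module.finrank_eq_card_basis b₀).symm))
  have hmem : ∀ i, ∃ a : A, (1 : K) ⊗ₜ[A] KaehlerDifferential.D k A a = b i := fun i => by
    rw [Module.Basis.reindex_apply]
    exact Module.Basis.ofSpan_subset hspan (Set.mem_range_self _)
  choose x hx using hmem
  let φ : (Fin (Module.finrank K V) → A) →ₗ[A] Ω[A⁄k] :=
    Fintype.linearCombination A fun i => KaehlerDifferential.D k A (x i)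
  -- derivations dual to the basis
  have hder : ∀ i, ∃ D : Derivation k A A, ∀ j, residue A (D (x j)) = if j = i then 1 else 0 := by
    intro i
    let e : A ⧸ m → A ⧸ m ^ 1 := Ideal.Quotient.factor (pow_one m).ge
    let l : Ω[A⁄k] →ₗ[A] A ⧸ m ^ 1 :=
      (Ideal.Quotient.factorₐ A (pow_one m).ge).toLinearMap ∘ₗ
        ((b.coord i).restrictScalars A ∘ₗ TensorProduct.mk A K (Ω[A⁄k]) 1)
    obtain ⟨D, hD⟩ := exists_derivation_lift h (l.compDer (KaehlerDifferential.D k A))
    refine ⟨D, fun j => ?_⟩
    have h1 := congrArg (Ideal.Quotient.factor (pow_one m).le) (hD (x j))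
    rw [Ideal.Quotient.factor_mk] at h1
    refine h1.trans ?_
    show Ideal.Quotient.factor (pow_one m).le (Ideal.Quotient.factor (pow_one m).ge
      (b.coord i ((1 : K) ⊗ₜ[A] KaehlerDifferential.D k A (x j)))) = _
    rw [hx, Module.Basis.coord_apply, Module.Basis.repr_self, Finsupp.single_apply]
    split
    · exact (congrArg _ (map_one _)).trans (map_one _)
    · exact (congrArg _ (map_zero _)).trans (map_zero _)
  choose D hD using hder
  let L : Ω[A⁄k] →ₗ[A] (Fin (Module.finrank K V) → A) :=
    LinearMap.pi fun i => (D i).liftKaehlerDifferential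
  have hLsurj : Function.Surjective (L ∘ₗ φ) := by
    rw [← LinearMap.range_eq_top, ← top_le_iff]
    refine Submodule.le_of_le_smul_of_le_jacobson_bot (I := m) (Module.Finite.fg_top) (IsLocalRing.maximalIdeal_le_jacobson ⊥) ?_
    intro v _
    refine Submodule.mem_sup.mpr ⟨L (φ v), ⟨v, rfl⟩, v - L (φ v), ?_, by abel⟩
    refine Adic.mem_smul_pi m _ fun i => ?_
    rw [smul_eq_mul, Ideal.mul_top]
    show (v - L (φ v)) i ∈ maximalIdeal A
    rw [← IsLocalRing.residue_eq_zero_iff, Pi.sub_apply, map_sub, sub_eq_zero]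
    simp only [φ, L, Fintype.linearCombination_apply, map_sum, map_smul, LinearMap.pi_apply,
      Derivation.liftKaehlerDifferential_comp_D, smul_eq_mul, map_mul, hD]
    simp
  have hLinj : Function.Injective (L ∘ₗ φ) := OrzechProperty.injective_of_surjective_endomorphism _ hLsurj
  have htop : LinearMap.range φ ⊔ m • (⊤ : Submodule A (Ω[A⁄k])) = ⊤ := by
    rw [eq_top_iff]
    intro w _
    let c := b.repr ((1 : K) ⊗ₜ[A] w)
    choose a ha using fun i => residue_surjective (c i)
    have h0 : (1 : K) ⊗ₜ[A] (w - φ a) = 0 := by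
      rw [TensorProduct.tmul_sub, sub_eq_zero]
      simp only [φ, Fintype.linearCombination_apply, TensorProduct.tmul_sum, TensorProduct.tmul_smul, hx]
      conv_lhs => rw [← b.sum_repr ((1 : K) ⊗ₜ[A] w)]
      refine Finset.sum_congr rfl fun i _ => ?_
      rw [← algebraMap_smul K (a i) (b i)]
      exact congrArg (· • b i) (ha i).symm
    refine Submodule.mem_sup.mpr ⟨φ a, ⟨a, rfl⟩, w - φ a, ?_, by abel⟩
    have h1 := congrArg (TensorProduct.quotTensorEquivQuotSMul (Ω[A⁄k]) m) h0
    exact (Submodule.Quotient.mk_eq_zero _).mp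
      ((TensorProduct.quotTensorEquivQuotSMul_mk_one_tmul m (w - φ a)).symm.trans (h1.trans (map_zero _)))
  have hsurj := Completed.surjective_of_sup_eq_top m φ htop
  refine ⟨LinearEquiv.ofBijective _ ⟨?_, hsurj⟩⟩
  rw [injective_iff_map_eq_zero]
  intro v hv
  refine hLinj ?_
  rw [map_zero]
  refine IsHausdorff.haus (I := m) (Adic.isHausdorff_pi m) _ fun n => ?_
  rw [SModEq.zero]
  have h1 := congrArg (AdicCompletion.eval m (Ω[A⁄k]) n) hv
  rw [map_zero, LinearMap.comp_apply, AdicCompletion.eval_of, Submodule.mkQ_apply,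
    Submodule.Quotient.mk_eq_zero] at h1
  have h2 := Submodule.mem_map_of_mem (f := L) h1
  rw [Submodule.map_smul''] at h2
  exact SetLike.le_def.mp (smul_mono_right _ le_top) h2

open KaehlerDifferential FieldSep.Cartier in
omit [IsAdicComplete (maximalIdeal A) A] in
/-- `dim K ⊗ Ω_{A/k₀} = dim A + trdeg`. -/
theorem finrank_eq {k₀ A : Type u} [Field k₀] [CommRing A] [IsLocalRing A] [IsNoetherianRing A]
    [Algebra k₀ A] (h : CAlgX.IsAdicFormallySmooth k₀ A (maximalIdeal A))
    [Algebra.EssFiniteType k₀ (ResidueField A)] :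
    Module.Finite (ResidueField A) (ResidueField A ⊗[A] Ω[A⁄k₀]) ∧
      (Module.finrank (ResidueField A) (ResidueField A ⊗[A] Ω[A⁄k₀]) : WithBot ℕ∞) =
        ringKrullDim A + (Cardinal.toNat (Algebra.trdeg k₀ (ResidueField A)) : WithBot ℕ∞) := by
  set K := ResidueField A
  let P := (⊥ : Subfield k₀)
  haveI : PerfectField P := perfectField_bot k₀
  haveI : Algebra.FormallySmooth P K := formallySmooth_of_perfectField P K
  have hsurj : Function.Surjective (algebraMap A K) := residue_surjective
  have hI : maximalIdeal A = RingHom.ker (algebraMap A K) := (IsLocalRing.ker_residue (R := A)).symm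
  -- the cotangent space is the kernel
  have hexc := exact_kerCotangentToTensor_mapBaseChange P A K hsurj
  have hinjc : Function.Injective (kerCotangentToTensor P A K) := by
    let π := (IsScalarTower.toAlgHom P A K).kerSquareLift
    have hπ : Function.Surjective π := Function.Surjective.of_comp (g := Ideal.Quotient.mk _) hsurj
    have hn : IsNilpotent (RingHom.ker π.toRingHom) := ⟨2, by
      rw [show RingHom.ker π.toRingHom = _ from AlgHom.ker_kerSquareLift _, Ideal.cotangentIdeal_square]
      rfl⟩
    obtain ⟨l, hl⟩ := (retractionKerCotangentToTensorEquivSection (R := P) (P := A) (S := K) hsurj).symm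
      ⟨Algebra.FormallySmooth.liftOfSurjective (AlgHom.id P K) π hπ hn,
        Algebra.FormallySmooth.comp_liftOfSurjective (AlgHom.id P K) π hπ hn⟩
    exact Function.LeftInverse.injective (g := l) (DFunLike.congr_fun hl)
  obtain ⟨e, -⟩ : ∃ e : CotangentSpace A ≃ₗ[A] (RingHom.ker (algebraMap A K)).Cotangent, True := by
    rw [← hI]
    exact ⟨LinearEquiv.refl _ _, trivial⟩
  let c' : CotangentSpace A →ₗ[K] K ⊗[A] Ω[A⁄P] :=
    ((kerCotangentToTensor P A K) ∘ₗ e.toLinearMap).extendScalarsOfSurjective hsurj
  have hc' : Function.Injective c' := hinjc.comp e.injective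
  have hrange : (mapBaseChange P A K).ker = LinearMap.range c' := by
    ext x
    rw [LinearMap.mem_ker, hexc x, LinearMap.mem_range]
    constructor
    · rintro ⟨y, rfl⟩
      exact ⟨e.symm y, by show kerCotangentToTensor P A K (e (e.symm y)) = _; rw [e.apply_symm_apply]⟩
    · rintro ⟨y, rfl⟩
      exact ⟨e y, rfl⟩
  let ek : CotangentSpace A ≃ₗ[K] (mapBaseChange P A K).ker :=
    (LinearEquiv.ofInjective c' hc').trans (LinearEquiv.ofEq _ _ hrange.symm)
  have hb : Fred (mapBaseChange P A K) (Module.finrank K (CotangentSpace A)) := by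
    refine ⟨Module.Finite.equiv ek, ?_, ?_⟩
    · rw [LinearMap.range_eq_top.mpr (mapBaseChange_surjective P A K hsurj)]; infer_instance
    · rw [LinearMap.index_of_surjective (mapBaseChange_surjective P A K hsurj), ek.finrank_eq]
  -- the cokernel of the first map is finite
  haveI hV : Module.Finite K (K ⊗[A] Ω[A⁄k₀]) := by
    haveI : Module.Finite A (Ω[K⁄k₀]) := Module.Finite.trans K _
    haveI : Module.Finite A (RingHom.ker (algebraMap A K)).Cotangent :=
      Module.Finite.of_surjective (RingHom.ker (algebraMap A K)).toCotangent (Ideal.toCotangent_surjective _)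
    haveI : Module.Finite A (K ⊗[A] Ω[A⁄k₀]) := by
      refine ⟨Submodule.fg_of_fg_map_of_fg_inf_ker ((mapBaseChange k₀ A K).restrictScalars A) ?_ ?_⟩
      · rw [Submodule.map_top, (LinearMap.range_eq_top (f := (mapBaseChange k₀ A K).restrictScalars A)).mpr
          (mapBaseChange_surjective k₀ A K hsurj)]
        exact Module.Finite.fg_top
      · rw [top_inf_eq, LinearMap.ker_restrictScalars,
          ← range_kerCotangentToTensor k₀ A K hsurj, LinearMap.range_eq_map]
        exact Submodule.FG.map _ Module.Finite.fg_top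
    exact Module.Finite.of_restrictScalars_finite A _ _
  let a := (mapBaseChange P k₀ A).baseChange K
  have hainj : Function.Injective a := Jacobian.injective_lTensor (Λ := P) h
  have hq : Function.Exact a ((map P k₀ A A).baseChange K) := FieldSep.Imperfection.exact_baseChange P k₀ A K
  let e2 := (Submodule.quotEquivOfEq _ _ hq.linearMap_ker_eq.symm).trans
      (LinearMap.quotKerEquivOfSurjective _ (LinearMap.lTensor_surjective K (map_surjective P k₀ A)))
  have ha : Fred a (-(Module.finrank K (K ⊗[A] Ω[A⁄k₀]) : ℤ)) := by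
    refine ⟨?_, Module.Finite.equiv e2.symm, ?_⟩
    · rw [LinearMap.ker_eq_bot.mpr hainj]; infer_instance
    · rw [LinearMap.index_of_injective hainj, e2.finrank_eq]
  have hsplit : mapBaseChange P k₀ K = (mapBaseChange P A K) ∘ₗ a ∘ₗ
      (AlgebraTensorModule.cancelBaseChange k₀ A K K Ω[k₀⁄P]).symm.toLinearMap := by
    rw [← LinearMap.comp_assoc, FieldSep.Imperfection.mapBaseChange_comp, LinearMap.comp_assoc,
      LinearEquiv.comp_symm, LinearMap.comp_id]
  have hc : Fred (mapBaseChange P k₀ K)
      ((Module.finrank K (CotangentSpace A) : ℤ) + -(Module.finrank K (K ⊗[A] Ω[A⁄k₀]) : ℤ)) := by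
    rw [hsplit]
    simpa using ((fred_of_bijective
      (AlgebraTensorModule.cancelBaseChange k₀ A K K Ω[k₀⁄P]).symm.bijective).comp ha).comp hb
  obtain ⟨d, hd, hf⟩ := cart_of_perfectField P k₀ K
  have heq : Module.finrank K (K ⊗[A] Ω[A⁄k₀]) = Module.finrank K (CotangentSpace A) + d := by
    have := hc.index_eq.symm.trans hf.index_eq
    omega
  refine ⟨hV, ?_⟩
  haveI hreg : IsRegularLocalRing A := (Groth.Agent.S2471.result.mp h).1
  rw [hd, Cardinal.toNat_natCast, heq, ← (IsRegularLocalRing.iff_finrank_cotangentSpace A).mp hreg, Nat.cast_add]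

end Groth.Agent.AdicFS.CompletedFree
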