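import Groth.Agent.S3441
import Mathlib

/-!
# The completion of a finite algebra is formally smooth relative to the base (EGA 0_IV 22.?)
-/

set_option autoImplicit false
set_option linter.style.haveILetI false
universe u

open TensorProduct

noncomputable section

namespace Groth.Agent.AdicFS.CompletionRel

variable {A₀ A : Type u} [CommRing A₀] [CommRing A] [Algebra A₀ A] (I : Ideal A)

theorem derivation_pow_mem {M : Type u} [AddCommGroup M] [Module A M] [Module A₀ M] (D : Derivation A₀ A M) :
    ∀ n, ∀ x ∈ I ^ (n + 1), D x ∈ (I ^ n • ⊤ : Submodule A M) := by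
  intro n
  induction n with
  | zero => intro x _; rw [pow_zero, Ideal.one_eq_top, Submodule.top_smul]; trivial
  | succ n ih =>
    intro x hx
    rw [pow_succ] at hx
    refine Submodule.mul_induction_on hx (fun r hr s hs => ?_) fun a b ha hb => by
      rw [map_add]; exact add_mem ha hb
    rw [D.leibniz]
    refine add_mem (Submodule.smul_mem_smul hr Submodule.mem_top) ?_
    rw [pow_succ', ← smul_eq_mul, Submodule.smul_assoc]
    exact Submodule.smul_mem_smul hs (ih r hr)

/-- Extension of a derivation to completions. -/
theorem exists_derivation {M : Type u} [AddCommGroup M] [Module A M] [Module A₀ M] [IsScalarTower A₀ A M]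
    (D : Derivation A₀ A M) :
    ∃ η : Derivation A₀ (AdicCompletion I A) (AdicCompletion I M),
      ∀ a, η (algebraMap A (AdicCompletion I A) a) = AdicCompletion.of I M (D a) := by
  choose ρ hρ using fun (x : AdicCompletion I A) (n : ℕ) => Submodule.Quotient.mk_surjective _ (x.val n)
  have key : ∀ {n : ℕ} {a b : A}, Submodule.Quotient.mk (p := (I ^ (n + 1) • ⊤ : Submodule A A)) a = Submodule.Quotient.mk b →
      Submodule.Quotient.mk (p := (I ^ n • ⊤ : Submodule A M)) (D a) = Submodule.Quotient.mk (D b) := by
    intro n a b h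
    rw [Submodule.Quotient.eq, smul_eq_mul, Ideal.mul_top] at h
    rw [Submodule.Quotient.eq, ← map_sub]
    exact derivation_pow_mem I D n _ h
  have hcomp : ∀ (x : AdicCompletion I A) {m n : ℕ} (_ : m ≤ n),
      Submodule.Quotient.mk (p := (I ^ (m + 1) • ⊤ : Submodule A A)) (ρ x (n + 1)) = Submodule.Quotient.mk (ρ x (m + 1)) := by
    intro x m n h
    rw [hρ x (m + 1), ← x.property (Nat.succ_le_succ h), ← hρ x (n + 1)]
    rfl
  let η : AdicCompletion I A → AdicCompletion I M := fun x =>
    ⟨fun n => Submodule.Quotient.mk (D (ρ x (n + 1))), fun {m n} h => key (hcomp x h)⟩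
  have hη : ∀ x n, (η x).val n = Submodule.Quotient.mk (D (ρ x (n + 1))) := fun _ _ => rfl
  have hmul : ∀ x y, η (x * y) = x • η y + y • η x := fun x y => by
    refine AdicCompletion.ext fun n => ?_
    have hsm : ∀ (z : AdicCompletion I A) (w : M), z.val n • (Submodule.Quotient.mk w : M ⧸ (I ^ n • ⊤ : Submodule A M)) =
        Submodule.Quotient.mk (ρ z (n + 1) • w) := fun z w => by
      rw [show z.val n = Submodule.Quotient.mk (ρ z (n + 1)) from
        ((congrArg (AdicCompletion.transitionMap I A (Nat.le_succ n)) (hρ z (n + 1))).trans (z.property _)).symm]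
      rfl
    rw [AdicCompletion.val_add_apply, AdicCompletion.smul_eval, AdicCompletion.smul_eval, hη, hη, hη, hsm, hsm,
      ← Submodule.Quotient.mk_add, ← D.leibniz]
    refine key ?_
    rw [hρ, AdicCompletion.val_mul, ← hρ x, ← hρ y]
    rfl
  have hadd : ∀ x y, η (x + y) = η x + η y := fun x y => by
    refine AdicCompletion.ext fun n => ?_
    rw [AdicCompletion.val_add_apply, hη, hη, hη, ← Submodule.Quotient.mk_add, ← map_add]
    refine key ?_
    rw [hρ, AdicCompletion.val_add_apply, Submodule.Quotient.mk_add, hρ, hρ]
  have hof : ∀ a, η (algebraMap A (AdicCompletion I A) a) = AdicCompletion.of I M (D a) := fun a =>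
    AdicCompletion.ext fun n => key ((hρ _ (n + 1)).trans rfl)
  refine ⟨Derivation.mk'
    { toFun := η
      map_add' := hadd
      map_smul' := fun c x => by
        rw [RingHom.id_apply]
        refine AdicCompletion.ext fun n => ?_
        rw [AdicCompletion.val_smul_apply, hη, hη, ← Submodule.Quotient.mk_smul, ← D.map_smul]
        refine key ?_
        rw [hρ, AdicCompletion.val_smul_apply, ← hρ x]
        rfl }
    fun x y => hmul x y, hof⟩

theorem isFormallySmoothRel [IsNoetherianRing A₀] [Module.Finite A₀ A] :
    EGA41.IsFormallySmoothRel A₀ A (AdicCompletion I A) := by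
  haveI : IsNoetherianRing A := IsNoetherianRing.of_finite A₀ A
  haveI : Module.Finite A (Ω[A⁄A₀]) := inferInstance
  haveI : IsScalarTower A₀ (AdicCompletion I A) (AdicCompletion I (Ω[A⁄A₀])) :=
    ⟨fun a r x => by rw [← algebraMap_smul A a r, ← algebraMap_smul A a (r • x), smul_assoc]⟩
  obtain ⟨η, hη⟩ := exists_derivation I (KaehlerDifferential.D A₀ A)
  let e := AdicCompletion.ofTensorProductEquivOfFiniteNoetherian I (Ω[A⁄A₀])
  let l : Ω[AdicCompletion I A⁄A₀] →ₗ[AdicCompletion I A] AdicCompletion I A ⊗[A] Ω[A⁄A₀] :=
    e.symm.toLinearMap ∘ₗ η.liftKaehlerDifferential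
  refine (S3441.result A₀ A (AdicCompletion I A)).mp ⟨l, LinearMap.ext fun t => ?_⟩
  induction t using TensorProduct.induction_on with
  | zero => simp
  | add x y hx hy => rw [map_add, hx, hy, map_add]
  | tmul c w =>
    have hw : w ∈ Submodule.span A (Set.range (KaehlerDifferential.D A₀ A)) := by
      rw [KaehlerDifferential.span_range_derivation]; trivial
    induction hw using Submodule.span_induction generalizing c with
    | mem w hw =>
      obtain ⟨a, rfl⟩ := hw
      rw [LinearMap.comp_apply, KaehlerDifferential.mapBaseChange_tmul, KaehlerDifferential.map_D, map_smul,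
        LinearMap.comp_apply, Derivation.liftKaehlerDifferential_comp_D, hη]
      show c • e.symm (AdicCompletion.of I _ _) = _
      rw [AdicCompletion.ofTensorProductEquivOfFiniteNoetherian_symm_of, TensorProduct.smul_tmul', smul_eq_mul, mul_one]
      rfl
    | zero => simp
    | add x y _ _ hx hy => rw [TensorProduct.tmul_add, map_add, hx, hy, map_add]
    | smul b x _ hx => rw [← TensorProduct.smul_tmul]; exact hx _

end Groth.Agent.AdicFS.CompletionRel
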