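import Groth.Agent.AdicFS.Basic
import Mathlib.RingTheory.Smooth.Local
import Mathlib.RingTheory.Filtration
import Mathlib.RingTheory.Etale.Kaehler
import Mathlib.RingTheory.LocalRing.ResidueField.Basic
import Mathlib.RingTheory.Smooth.Fiber

/-!
# Adic formal smoothness of a local ring and the residual conormal map
-/

universe u

namespace Groth.Agent.AdicFS.Conormal

open TensorProduct IsLocalRing KaehlerDifferential

variable {R B C : Type u} [CommRing R] [CommRing B] [CommRing C] [IsLocalRing B] [IsLocalRing C]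
  [IsNoetherianRing B] [Algebra R B] [Algebra R C] [Algebra B C] [IsScalarTower R B C]

set_option maxHeartbeats 800000 in
/-- An element of the kernel whose differential lies in `𝔪 Ω` lies in `𝔪 J`. -/
theorem mem_mul_ker_of_D_mem (hsurj : Function.Surjective (algebraMap B C))
    (hfs : CAlgX.IsAdicFormallySmooth R C (maximalIdeal C))
    {x : B} (hx : x ∈ RingHom.ker (algebraMap B C))
    (hdx : D R B x ∈ maximalIdeal B • (⊤ : Submodule B Ω[B⁄R])) :
    x ∈ maximalIdeal B * RingHom.ker (algebraMap B C) := by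
  set J := RingHom.ker (algebraMap B C) with hJdef
  have hJm : J ≤ maximalIdeal B := le_maximalIdeal (RingHom.ker_ne_top _)
  have hloc : IsLocalHom (algebraMap B C) := hsurj.isLocalHom _
  -- Artin–Rees
  obtain ⟨k, hk⟩ := Ideal.exists_pow_inf_eq_pow_smul (maximalIdeal B) (J : Submodule B B)
  have hAR : maximalIdeal B ^ (k + 1) ⊓ J ≤ maximalIdeal B * J := by
    have h1 := hk (k + 1) (Nat.le_succ k)
    rw [Nat.add_sub_cancel_left, pow_one, smul_eq_mul, Ideal.mul_top] at h1
    rw [h1]
    exact Submodule.smul_mono le_rfl inf_le_right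
  set a : Ideal B := maximalIdeal B * J ⊔ maximalIdeal B ^ (k + 1) with ha
  set J' : Ideal (B ⧸ a) := J.map (Ideal.Quotient.mk a) with hJ'
  have hmJ : ∀ r ∈ maximalIdeal B, ∀ y ∈ J', Ideal.Quotient.mk a r * y = 0 := by
    intro r hr y hy
    obtain ⟨z, hz, rfl⟩ := (Ideal.mem_map_iff_of_surjective _ Ideal.Quotient.mk_surjective).mp hy
    rw [← map_mul, Ideal.Quotient.eq_zero_iff_mem]
    exact Submodule.mem_sup_left (Ideal.mul_mem_mul hr hz)
  have hJ'2 : J' ^ 2 = ⊥ := by
    rw [pow_two, eq_bot_iff, Ideal.mul_le]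
    intro r hr s hs
    obtain ⟨z, hz, rfl⟩ := (Ideal.mem_map_iff_of_surjective _ Ideal.Quotient.mk_surjective).mp hr
    simpa using hmJ z (hJm hz) s hs
  let f : B →ₐ[R] (B ⧸ a) ⧸ J' := (Ideal.Quotient.mkₐ R J').comp (Ideal.Quotient.mkₐ R a)
  have hf : ∀ y ∈ J, f y = 0 := fun y hy =>
    Ideal.Quotient.eq_zero_iff_mem.mpr (Ideal.mem_map_of_mem _ hy)
  let e : (B ⧸ J) ≃ₐ[R] C :=
    Ideal.quotientKerAlgEquivOfSurjective (f := IsScalarTower.toAlgHom R B C) hsurj
  let ψ : C →ₐ[R] (B ⧸ a) ⧸ J' := (Ideal.Quotient.liftₐ J f hf).comp e.symm.toAlgHom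
  have he : ∀ b, e.symm (algebraMap B C b) = Ideal.Quotient.mk J b := fun b => by
    rw [AlgEquiv.symm_apply_eq]; rfl
  have hψ : ∀ b, ψ (algebraMap B C b) = f b := fun b => by
    show Ideal.Quotient.liftₐ J f hf (e.symm (algebraMap B C b)) = f b
    rw [he]; rfl
  have hψcont : ∀ c ∈ maximalIdeal C ^ (k + 1), ψ c = 0 := by
    intro c hc
    have hmap : maximalIdeal C = (maximalIdeal B).map (algebraMap B C) :=
      (IsLocalRing.map_maximalIdeal_of_surjective _ hsurj).symm
    rw [hmap, ← Ideal.map_pow] at hc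
    obtain ⟨b, hb, rfl⟩ := (Ideal.mem_map_iff_of_surjective _ hsurj).mp hc
    rw [hψ]
    refine Ideal.Quotient.eq_zero_iff_mem.mpr ?_
    have : Ideal.Quotient.mk a b = 0 :=
      Ideal.Quotient.eq_zero_iff_mem.mpr (Submodule.mem_sup_right hb)
    simp [this]
  obtain ⟨χ, hχ⟩ := hfs (B ⧸ a) J' hJ'2 ψ ⟨k + 1, hψcont⟩
  have hmem : ∀ b, Ideal.Quotient.mk a b - χ (algebraMap B C b) ∈ J' := by
    intro b
    rw [← Ideal.Quotient.eq]
    have := DFunLike.congr_fun hχ (algebraMap B C b)
    rw [hψ] at this
    exact this.symm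
  let δ : Derivation R B (B ⧸ a) :=
  { toFun := fun b => Ideal.Quotient.mk a b - χ (algebraMap B C b)
    map_add' := fun b c => by simp only [map_add]; abel
    map_smul' := fun r b => by
      simp only [RingHom.id_apply, Algebra.smul_def, map_mul, ← IsScalarTower.algebraMap_apply,
        AlgHom.commutes, mul_sub]
      rfl
    map_one_eq_zero' := by simp
    leibniz' := fun b c => by
      have h0 : (Ideal.Quotient.mk a b - χ (algebraMap B C b)) *
          (Ideal.Quotient.mk a c - χ (algebraMap B C c)) = 0 := by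
        rw [← Ideal.mem_bot, ← hJ'2, pow_two]
        exact Ideal.mul_mem_mul (hmem b) (hmem c)
      show Ideal.Quotient.mk a (b * c) - χ (algebraMap B C (b * c)) = _
      simp only [map_mul, Algebra.smul_def, Ideal.Quotient.algebraMap_eq, LinearMap.coe_mk,
        AddHom.coe_mk]
      linear_combination -h0 }
  have hrange : ∀ ω, δ.liftKaehlerDifferential ω ∈ J' := by
    intro ω
    have hω : ω ∈ Submodule.span B (Set.range (D R B)) := by
      rw [span_range_derivation]; trivial
    induction hω using Submodule.span_induction with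
    | mem y hy => obtain ⟨b, rfl⟩ := hy; rw [Derivation.liftKaehlerDifferential_comp_D]; exact hmem b
    | zero => simp
    | add y z _ _ hy hz => rw [map_add]; exact add_mem hy hz
    | smul r y _ hy =>
      rw [map_smul, Algebra.smul_def]
      exact Ideal.mul_mem_left _ _ hy
  have hzero : δ.liftKaehlerDifferential (D R B x) = 0 := by
    refine Submodule.smul_induction_on hdx (fun r hr ω _ => ?_) (fun y z hy hz => by rw [map_add, hy, hz, add_zero])
    rw [map_smul, Algebra.smul_def]
    exact hmJ r hr _ (hrange ω)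
  rw [Derivation.liftKaehlerDifferential_comp_D] at hzero
  have hxa : x ∈ a := by
    rw [← Ideal.Quotient.eq_zero_iff_mem]
    have hx0 : δ x = Ideal.Quotient.mk a x := by
      show Ideal.Quotient.mk a x - χ (algebraMap B C x) = _
      rw [RingHom.mem_ker.mp hx, map_zero, sub_zero]
    rw [← hx0]; exact hzero
  obtain ⟨y, hy, z, hz, hyz⟩ := Submodule.mem_sup.mp hxa
  have hzJ : z ∈ J := by
    have : z = x - y := by rw [← hyz]; ring
    rw [this]
    exact sub_mem hx ((Ideal.mul_le_right : maximalIdeal B * J ≤ J) hy)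
  rw [← hyz]
  exact add_mem hy (hAR ⟨hz, hzJ⟩)

/-- Adic formal smoothness of `C = B/J` makes the residual conormal map injective. -/
theorem injective_cotangentComplexBaseChange (hsurj : Function.Surjective (algebraMap B C))
    (hfs : CAlgX.IsAdicFormallySmooth R C (maximalIdeal C)) :
    Function.Injective (cotangentComplexBaseChange R C B (ResidueField C)) := by
  have hloc : IsLocalHom (algebraMap B C) := hsurj.isLocalHom _
  have hres : Function.Surjective (algebraMap B (ResidueField C)) := by
    intro r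
    obtain ⟨c, rfl⟩ := IsLocalRing.residue_surjective r
    obtain ⟨b, rfl⟩ := hsurj c
    exact ⟨b, IsScalarTower.algebraMap_apply B C (ResidueField C) b⟩
  have hker : RingHom.ker (algebraMap B (ResidueField C)) = maximalIdeal B :=
    IsLocalRing.eq_maximalIdeal (RingHom.ker_isMaximal_of_surjective _ hres)
  rw [injective_iff_map_eq_zero]
  intro t ht
  obtain ⟨x, rfl⟩ := TensorProduct.mk_surjective B _ (ResidueField C) hres t
  have hdx : (1 : ResidueField C) ⊗ₜ[B] D R B (x : B) = 0 := by
    simpa [cotangentComplexBaseChange_tmul, kerToTensor_apply] using ht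
  let ek : (B ⧸ maximalIdeal B) ≃ₐ[B] ResidueField C :=
    (Ideal.quotientEquivAlgOfEq B hker.symm).trans
      (Ideal.quotientKerAlgEquivOfSurjective (f := Algebra.ofId B (ResidueField C)) hres)
  have key : ∀ {M : Type u} [AddCommGroup M] [Module B M] (y : M),
      (1 : ResidueField C) ⊗ₜ[B] y = 0 ↔ y ∈ maximalIdeal B • (⊤ : Submodule B M) := by
    intro M _ _ y
    let E : ResidueField C ⊗[B] M ≃ₗ[B] M ⧸ maximalIdeal B • (⊤ : Submodule B M) :=
      (TensorProduct.congr ek.symm.toLinearEquiv (LinearEquiv.refl B M)).trans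
        (TensorProduct.quotTensorEquivQuotSMul M (maximalIdeal B))
    have hE : E ((1 : ResidueField C) ⊗ₜ[B] y) = Submodule.Quotient.mk y := by
      simp only [E, LinearEquiv.trans_apply, TensorProduct.congr_tmul, AlgEquiv.toLinearEquiv_apply,
        map_one, LinearEquiv.refl_apply]
      rw [← map_one (Ideal.Quotient.mk (maximalIdeal B)),
        TensorProduct.quotTensorEquivQuotSMul_mk_tmul, one_smul]
    rw [← E.map_eq_zero_iff, hE, Submodule.Quotient.mk_eq_zero]
  rw [key] at hdx
  have hxmJ : (x : B) ∈ maximalIdeal B * RingHom.ker (algebraMap B C) :=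
    mem_mul_ker_of_D_mem hsurj hfs x.2 hdx
  show (1 : ResidueField C) ⊗ₜ[B] x = 0
  rw [key]
  rwa [Submodule.mem_smul_top_iff]

/-- For a local algebra which is essentially of finite type over a Noetherian ring, adic formal
smoothness equals formal smoothness. -/
theorem formallySmooth_of_adic {R C : Type u} [CommRing R] [IsNoetherianRing R] [CommRing C]
    [IsLocalRing C] [Algebra R C] [Algebra.EssFiniteType R C]
    (hfs : CAlgX.IsAdicFormallySmooth R C (maximalIdeal C)) : Algebra.FormallySmooth R C := by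
  let S := Algebra.EssFiniteType.subalgebra R C
  obtain ⟨n, f₀, hf₀⟩ := Algebra.FiniteType.iff_quotient_mvPolynomial''.mp
    (inferInstance : Algebra.FiniteType R S)
  let g : MvPolynomial (Fin n) R →ₐ[R] C := S.val.comp f₀
  let q : Ideal (MvPolynomial (Fin n) R) := (maximalIdeal C).comap g
  have hq : q.IsPrime := Ideal.comap_isPrime _ _
  let B := Localization.AtPrime q
  have hu : ∀ y : q.primeCompl, IsUnit (g y) := fun y =>
    IsLocalRing.notMem_maximalIdeal.mp y.2
  let gB : B →ₐ[R] C := IsLocalization.liftAlgHom (M := q.primeCompl) (f := g) hu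
  have hgB : ∀ y, gB (algebraMap _ B y) = g y := fun y => by simp [gB]
  have hsurj : Function.Surjective gB := by
    intro c
    obtain ⟨⟨d, s⟩, hd⟩ := IsLocalization.surj (Algebra.EssFiniteType.submonoid R C) c
    obtain ⟨p, hp⟩ := hf₀ d
    obtain ⟨t, ht⟩ := hf₀ s.1
    have hgt : g t = algebraMap S C s.1 := by simp only [g, AlgHom.comp_apply, ht]; rfl
    have hgp : g p = algebraMap S C d := by simp only [g, AlgHom.comp_apply, hp]; rfl
    have htq : t ∈ q.primeCompl := by
      show ¬ g t ∈ maximalIdeal C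
      rw [hgt]
      exact IsLocalRing.notMem_maximalIdeal.mpr s.2
    refine ⟨IsLocalization.mk' B p ⟨t, htq⟩, ?_⟩
    have h1 := congrArg gB (IsLocalization.mk'_spec B p ⟨t, htq⟩)
    rw [map_mul, hgB, hgB] at h1
    refine ((hu ⟨t, htq⟩).mul_right_cancel ?_).symm
    rw [h1, hgt, hgp]
    exact hd
  algebraize [gB.toRingHom]
  have : IsScalarTower R B C := .of_algebraMap_eq fun r => (gB.commutes r).symm
  have : Algebra.FormallyEtale (MvPolynomial (Fin n) R) B := .of_isLocalization q.primeCompl
  have : Algebra.FormallySmooth R B := .comp _ (MvPolynomial (Fin n) R) _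
  have : Module.Free B Ω[B⁄R] :=
    .of_equiv (KaehlerDifferential.tensorKaehlerEquivOfFormallyEtale R (MvPolynomial (Fin n) R) B)
  rw [Algebra.FormallySmooth.iff_injective_cotangentComplexBaseChange_residueField B hsurj
    (IsNoetherian.noetherian _)]
  exact injective_cotangentComplexBaseChange hsurj hfs

end Groth.Agent.AdicFS.Conormal
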