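import Mathlib.RingTheory.AdicCompletion.Functoriality
import Mathlib.RingTheory.Flat.Basic
import Mathlib.RingTheory.TensorProduct.Basic
import Mathlib.LinearAlgebra.TensorProduct.Quotient
import Mathlib.LinearAlgebra.TensorProduct.RightExactness

/-!
# A map into a flat separated module that is bijective modulo an ideal is bijective
-/

set_option autoImplicit false
universe u

open TensorProduct

noncomputable section

namespace Groth.Agent.AdicFS.FlatComplete

variable {A : Type u} [CommRing A] (J : Ideal A)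
  {M N : Type u} [AddCommGroup M] [Module A M] [AddCommGroup N] [Module A N]

/-- Multiplication `J^k ⊗ M → M`. -/
def mult (K : Submodule A A) (M : Type u) [AddCommGroup M] [Module A M] : K ⊗[A] M →ₗ[A] M :=
  (TensorProduct.lid A M).toLinearMap ∘ₗ K.subtype.rTensor M

theorem mult_tmul (K : Submodule A A) (x : K) (m : M) : mult K M (x ⊗ₜ m) = (x : A) • m := by
  simp [mult]

theorem range_mult (K : Ideal A) :
    LinearMap.range (mult K M) = (K • ⊤ : Submodule A M) := by
  refine le_antisymm ?_ (Submodule.smul_le.mpr fun a ha m _ => ⟨(⟨a, ha⟩ : K) ⊗ₜ m, mult_tmul K _ m⟩)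
  rintro _ ⟨t, rfl⟩
  induction t with
  | zero => rw [map_zero]; exact zero_mem _
  | add a b ha hb => rw [map_add]; exact add_mem ha hb
  | tmul x m => rw [mult_tmul]; exact Submodule.smul_mem_smul x.2 Submodule.mem_top

theorem mult_natural (K : Submodule A A) (u : N →ₗ[A] M) :
    (mult K M) ∘ₗ (u.lTensor K) = u ∘ₗ mult K N :=
  TensorProduct.ext' fun x m => by simp [mult]

variable {J}

theorem lTensor_injective_of_bijective_mod (u : N →ₗ[A] M)
    (hsurj : ∀ m : M, ∃ n : N, m - u n ∈ (J • ⊤ : Submodule A M))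
    (hinj : ∀ n : N, u n ∈ (J • ⊤ : Submodule A M) → n ∈ (J • ⊤ : Submodule A N))
    (G : Type u) [AddCommGroup G] [Module A G] (hG : ∀ a ∈ J, ∀ g : G, a • g = 0) :
    Function.Injective (u.lTensor G) := by
  have hker : (J • ⊤ : Submodule A N) ≤ (J • ⊤ : Submodule A M).comap u :=
    Submodule.smul_le.mpr fun a ha n _ => by
      rw [Submodule.mem_comap, map_smul]; exact Submodule.smul_mem_smul ha Submodule.mem_top
  let ub : (N ⧸ (J • ⊤ : Submodule A N)) →ₗ[A] M ⧸ (J • ⊤ : Submodule A M) := Submodule.mapQ _ _ u hker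
  have hub : Function.Bijective ub := by
    refine ⟨(injective_iff_map_eq_zero _).mpr fun x hx => ?_, fun y => ?_⟩
    · induction x using Submodule.Quotient.induction_on with
      | H n =>
        rw [Submodule.Quotient.mk_eq_zero]
        exact hinj n ((Submodule.Quotient.mk_eq_zero _).mp hx)
    · induction y using Submodule.Quotient.induction_on with
      | H m =>
        obtain ⟨n, hn⟩ := hsurj m
        exact ⟨Submodule.Quotient.mk n, ((Submodule.Quotient.eq _).mpr hn).symm⟩
  have hq : Function.Injective ((J • ⊤ : Submodule A N).mkQ.lTensor G) := by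
    refine (injective_iff_map_eq_zero _).mpr fun t ht => ?_
    have hex := lTensor_exact G (LinearMap.exact_subtype_mkQ (J • ⊤ : Submodule A N)) (Submodule.mkQ_surjective _)
    obtain ⟨s, rfl⟩ := (hex t).mp ht
    have h0 : (J • ⊤ : Submodule A N).subtype.lTensor G = 0 := TensorProduct.ext' fun g ⟨n, hn⟩ => by
      rw [LinearMap.lTensor_tmul, Submodule.subtype_apply, LinearMap.zero_apply]
      refine Submodule.smul_induction_on (p := fun n => g ⊗ₜ[A] n = 0) hn (fun a ha n _ => ?_) (fun a b ha hb => ?_)
      · rw [← smul_tmul, hG a ha g, zero_tmul]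
      · rw [tmul_add, ha, hb, add_zero]
    rw [h0, LinearMap.zero_apply]
  have hcomp : ((J • ⊤ : Submodule A M).mkQ.lTensor G) ∘ₗ u.lTensor G =
      (LinearEquiv.ofBijective ub hub).toLinearMap.lTensor G ∘ₗ (J • ⊤ : Submodule A N).mkQ.lTensor G := by
    rw [← LinearMap.lTensor_comp, ← LinearMap.lTensor_comp]; rfl
  intro a b hab
  refine hq (((LinearEquiv.ofBijective ub hub).lTensor G).injective ?_)
  exact ((LinearMap.congr_fun hcomp a).symm.trans
    (congrArg ((J • ⊤ : Submodule A M).mkQ.lTensor G) hab)).trans (LinearMap.congr_fun hcomp b)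

theorem mem_pow_smul_of_apply_mem [Module.Flat A M] (u : N →ₗ[A] M)
    (hsurj : ∀ m : M, ∃ n : N, m - u n ∈ (J • ⊤ : Submodule A M))
    (hinj : ∀ n : N, u n ∈ (J • ⊤ : Submodule A M) → n ∈ (J • ⊤ : Submodule A N)) :
    ∀ (k : ℕ) {n : N}, u n ∈ (J ^ k • ⊤ : Submodule A M) → n ∈ (J ^ k • ⊤ : Submodule A N) := by
  intro k
  induction k with
  | zero => intro n _; rw [pow_zero, Ideal.one_eq_top, Submodule.top_smul]; trivial
  | succ k ih =>
    intro n hn
    have hle : J ^ (k + 1) ≤ J ^ k := Ideal.pow_le_pow_right (Nat.le_succ k)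
    have h0 := ih (Submodule.smul_mono_left hle hn)
    rw [← range_mult] at h0
    obtain ⟨t, rfl⟩ := h0
    rw [← range_mult] at hn
    obtain ⟨s, hs⟩ := hn
    let incl : ↥(J ^ (k + 1)) →ₗ[A] ↥(J ^ k) := Submodule.inclusion hle
    have hinclM : (mult (J ^ k) M) ∘ₗ incl.rTensor M = mult (J ^ (k + 1)) M :=
      TensorProduct.ext' fun x m => by simp [mult, incl]
    have hinclN : (mult (J ^ k) N) ∘ₗ incl.rTensor N = mult (J ^ (k + 1)) N :=
      TensorProduct.ext' fun x m => by simp [mult, incl]
    have hmultinj : Function.Injective (mult (J ^ k) M) :=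
      (TensorProduct.lid A M).injective.comp
        (Module.Flat.rTensor_preserves_injective_linearMap _ (Submodule.injective_subtype _))
    have he : u.lTensor ↥(J ^ k) t = incl.rTensor M s := hmultinj (by
      rw [← LinearMap.comp_apply, mult_natural, ← LinearMap.comp_apply (mult (J ^ k) M) (incl.rTensor M), hinclM,
        LinearMap.comp_apply]
      exact hs.symm)
    let P : Submodule A ↥(J ^ k) := LinearMap.range incl
    have hG : ∀ a ∈ J, ∀ g : ↥(J ^ k) ⧸ P, a • g = 0 := by
      intro a ha g
      induction g using Submodule.Quotient.induction_on with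
      | H g =>
        rw [← Submodule.Quotient.mk_smul, Submodule.Quotient.mk_eq_zero]
        exact ⟨⟨a * (g : A), by rw [pow_succ']; exact Ideal.mul_mem_mul ha g.2⟩, rfl⟩
    have h1 : P.mkQ.rTensor N t = 0 := by
      refine lTensor_injective_of_bijective_mod u hsurj hinj _ hG ?_
      rw [map_zero, ← LinearMap.comp_apply, LinearMap.lTensor_comp_rTensor,
        ← LinearMap.rTensor_comp_lTensor, LinearMap.comp_apply, he, ← LinearMap.comp_apply,
        ← LinearMap.rTensor_comp, show P.mkQ ∘ₗ incl = 0 from LinearMap.range_le_ker_iff.mp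
          (le_of_eq (Submodule.ker_mkQ P).symm), LinearMap.rTensor_zero, LinearMap.zero_apply]
    have hex : Function.Exact incl P.mkQ :=
      LinearMap.exact_iff.mpr (Submodule.ker_mkQ P)
    obtain ⟨t', rfl⟩ := (rTensor_exact N hex (Submodule.mkQ_surjective P) t).mp h1
    rw [← LinearMap.comp_apply, hinclN, ← range_mult]
    exact LinearMap.mem_range_self _ t'

theorem bijective [IsHausdorff J M] [IsAdicComplete J N] [Module.Flat A M] (u : N →ₗ[A] M)
    (hsurj : ∀ m : M, ∃ n : N, m - u n ∈ (J • ⊤ : Submodule A M))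
    (hinj : ∀ n : N, u n ∈ (J • ⊤ : Submodule A M) → n ∈ (J • ⊤ : Submodule A N)) :
    Function.Bijective u := by
  refine ⟨(injective_iff_map_eq_zero u).mpr fun n hn => ?_,
    surjective_of_mkQ_comp_surjective (I := J) fun y => ?_⟩
  · refine IsHausdorff.haus (I := J) inferInstance n fun k => ?_
    rw [SModEq.zero]
    exact mem_pow_smul_of_apply_mem u hsurj hinj k (by rw [hn]; exact zero_mem _)
  · induction y using Submodule.Quotient.induction_on with
    | H m =>
      obtain ⟨n, hn⟩ := hsurj m
      exact ⟨n, ((Submodule.Quotient.eq _).mpr hn).symm⟩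

end Groth.Agent.AdicFS.FlatComplete
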