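import Groth.Agent.S2471
import Groth.Agent.S2473
import Groth.Agent.RegLoc.Homological
import Groth.Agent.FieldSep.MacLane
import Groth.Agent.AdicFS.Basic
import Mathlib

/-!
# Formal smoothness over a field and radicial base change (EGA 0_IV 22.5.8)
-/

set_option autoImplicit false
universe u

open IsLocalRing TensorProduct KaehlerDifferential

noncomputable section

namespace Groth.Agent.AdicFS.PRadical

variable {k A : Type u} [Field k] [CommRing A] [Algebra k A]

theorem exists_basis_D (k : Type u) [Field k] :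
    ∃ (ι : Type u) (a : ι → k) (b : Module.Basis ι k (Ω[k⁄ℤ])),
      ∀ i, b i = KaehlerDifferential.D ℤ k (a i) := by
  let hs := (KaehlerDifferential.span_range_derivation ℤ k).ge
  let b := Module.Basis.ofSpan hs
  have hmem : ∀ i, b i ∈ Set.range (KaehlerDifferential.D ℤ k) := fun i =>
    Module.Basis.ofSpan_subset hs (Set.mem_range_self i)
  choose a ha using hmem
  exact ⟨_, a, b, fun i => (ha i).symm⟩

theorem injective_of_linearIndependent [IsLocalRing A]
    (H : ∀ (r : ℕ) (a : Fin r → k), LinearIndependent k (fun i => KaehlerDifferential.D ℤ k (a i)) →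
      LinearIndependent (ResidueField A)
        (fun i => (1 : ResidueField A) ⊗ₜ[A] KaehlerDifferential.D ℤ A (algebraMap k A (a i)))) :
    Function.Injective ((KaehlerDifferential.mapBaseChange ℤ k A).lTensor (ResidueField A)) := by
  classical
  obtain ⟨ι, a, b, hb⟩ := exists_basis_D k
  let b' := (b.baseChange A).baseChange (ResidueField A)
  let f := (KaehlerDifferential.mapBaseChange ℤ k A).baseChange (ResidueField A)
  have hf : ∀ i, f (b' i) = (1 : ResidueField A) ⊗ₜ[A] KaehlerDifferential.D ℤ A (algebraMap k A (a i)) := by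
    intro i
    simp only [b', f, Module.Basis.baseChange_apply, LinearMap.baseChange_tmul,
      KaehlerDifferential.mapBaseChange_tmul, hb, KaehlerDifferential.map_D, one_smul]
  have hli : LinearIndependent (ResidueField A) (fun i => f (b' i)) := by
    simp only [hf]
    rw [linearIndependent_iff_finset_linearIndependent]
    intro s
    have := H s.card (fun j => a (s.equivFin.symm j)) (by
      simp only [← hb]
      exact b.linearIndependent.comp _ (Subtype.val_injective.comp s.equivFin.symm.injective))
    rw [← linearIndependent_equiv s.equivFin.symm]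
    exact this
  show Function.Injective f
  rw [← LinearMap.ker_eq_bot]
  refine (eq_bot_iff.mpr fun x hx => ?_)
  rw [LinearMap.mem_ker, ← b'.linearCombination_repr x, Finsupp.apply_linearCombination] at hx
  rw [Submodule.mem_bot, ← b'.linearCombination_repr x, linearIndependent_iff.mp hli _ hx, map_zero]

/-- In characteristic zero the absolute differentials inject. -/
theorem linearIndependent_of_charZero [CharZero k] [IsLocalRing A] {r : ℕ} (a : Fin r → k)
    (ha : LinearIndependent k (fun i => KaehlerDifferential.D ℤ k (a i))) :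
    LinearIndependent (ResidueField A)
      (fun i => (1 : ResidueField A) ⊗ₜ[A] KaehlerDifferential.D ℤ A (algebraMap k A (a i))) := by
  haveI := FieldSep.MacLane.isGeometricallyReduced_of_charZero (k := k) (ResidueField A)
  haveI : Algebra.FormallySmooth k (ResidueField A) := FieldSep.MacLane.formallySmooth_of_isGeometricallyReduced
  have hinj : Function.Injective (KaehlerDifferential.mapBaseChange ℤ k (ResidueField A)) :=
    FieldSep.MacLane.injective_of_formallySmooth
  refine LinearIndependent.of_comp (KaehlerDifferential.mapBaseChange ℤ A (ResidueField A)) ?_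
  have h1 : LinearIndependent (ResidueField A)
      (fun i => (1 : ResidueField A) ⊗ₜ[k] KaehlerDifferential.D ℤ k (a i)) :=
    Module.Flat.linearIndependent_one_tmul ha
  have h2 := h1.map' _ (LinearMap.ker_eq_bot.mpr hinj)
  convert h2 using 1
  all_goals try rfl
  funext i
  simp only [Function.comp_apply, KaehlerDifferential.mapBaseChange_tmul, one_smul,
    KaehlerDifferential.map_D, IsScalarTower.algebraMap_apply k A (ResidueField A)]

/-- `A[T]/(T^p - f)` for a regular local ring of characteristic `p`. -/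
theorem regular_iff {A : Type u} [CommRing A] [IsRegularLocalRing A] (p : ℕ) [Fact p.Prime]
    (hpA : (p : A) = 0) {r : ℕ} (f : Fin r → A) :
    IsLocalRing (MvPolynomial (Fin r) A ⧸
        Ideal.span (Set.range fun i => MvPolynomial.X i ^ p - MvPolynomial.C (f i))) ∧
      (IsRegularRing (MvPolynomial (Fin r) A ⧸
          Ideal.span (Set.range fun i => MvPolynomial.X i ^ p - MvPolynomial.C (f i))) ↔
        LinearIndependent (ResidueField A)
          (fun i => (1 : ResidueField A) ⊗ₜ[A] KaehlerDifferential.D ℤ A (f i))) := by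
  haveI : CharP (ResidueField A) p := (CharP.charP_iff_prime_eq_zero Fact.out).mpr (by
    rw [← map_natCast (residue A), hpA, map_zero])
  have h := Groth.Agent.S2473.result p (fun (_ : Fin r) (_ : Fin p) => (0 : A)) f
    (by rw [hpA]; exact zero_mem _)
  have e : (p : MvPolynomial (Fin r) A) = 0 := by
    rw [← map_natCast (MvPolynomial.C : A →+* MvPolynomial (Fin r) A), hpA, map_zero]
  have e' : ∀ S : MvPolynomial (Fin r) A, (p : MvPolynomial (Fin r) A) * S = 0 := fun S =>
    mul_eq_zero_of_left e S
  have key : ∀ F G : Fin r → MvPolynomial (Fin r) A, F = G →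
      (IsLocalRing (MvPolynomial (Fin r) A ⧸ Ideal.span (Set.range F)) ∧
        (IsRegularRing (MvPolynomial (Fin r) A ⧸ Ideal.span (Set.range F)) ↔
          LinearIndependent (ResidueField A)
            (fun i => (1 : ResidueField A) ⊗ₜ[A] KaehlerDifferential.D ℤ A (f i)))) →
      IsLocalRing (MvPolynomial (Fin r) A ⧸ Ideal.span (Set.range G)) ∧
        (IsRegularRing (MvPolynomial (Fin r) A ⧸ Ideal.span (Set.range G)) ↔
          LinearIndependent (ResidueField A)
            (fun i => (1 : ResidueField A) ⊗ₜ[A] KaehlerDifferential.D ℤ A (f i))) := by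
    intro F G hFG hh
    subst hFG
    exact hh
  refine key _ _ (funext fun i => ?_) h
  show MvPolynomial.X i ^ p + (p : MvPolynomial (Fin r) A) * _ - _ = _
  rw [e, zero_mul, add_zero]

/-- The radicial extension `k[T]/(T^p - a)`. -/
abbrev Root (p : ℕ) {r : ℕ} (a : Fin r → k) : Type u :=
  MvPolynomial (Fin r) k ⧸ Ideal.span (Set.range fun i => MvPolynomial.X i ^ p - MvPolynomial.C (a i))

theorem pow_mem_range (p : ℕ) [hp : Fact p.Prime] [CharP k p] {r : ℕ} (a : Fin r → k) (x : Root p a) :
    x ^ p ∈ (algebraMap k (Root p a)).range := by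
  obtain ⟨x, rfl⟩ := Ideal.Quotient.mk_surjective x
  induction x using MvPolynomial.induction_on with
  | C c => exact ⟨c ^ p, by rw [map_pow]; rfl⟩
  | add x y hx hy =>
    rcases subsingleton_or_nontrivial (Root p a) with h | h
    · exact ⟨0, Subsingleton.elim _ _⟩
    haveI : CharP (Root p a) p := charP_of_injective_algebraMap (algebraMap k (Root p a)).injective p
    rw [map_add, add_pow_char]
    exact add_mem hx hy
  | mul_X x i hx =>
    rw [map_mul, mul_pow]
    refine mul_mem hx ⟨a i, ?_⟩
    rw [← map_pow]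
    refine (Ideal.Quotient.eq.mpr ?_).symm
    exact Ideal.subset_span ⟨i, rfl⟩

theorem isField_root (p : ℕ) [hp : Fact p.Prime] [CharP k p] {r : ℕ} (a : Fin r → k)
    (ha : LinearIndependent k (fun i => KaehlerDifferential.D ℤ k (a i))) :
    IsField (Root p a) ∧ Module.Finite k (Root p a) := by
  haveI : Algebra.IsIntegral k (Root p a) := ⟨fun x => by
    obtain ⟨c, hc⟩ := pow_mem_range p a x
    exact IsIntegral.of_pow hp.out.pos (hc ▸ isIntegral_algebraMap)⟩
  haveI : Algebra.FiniteType k (Root p a) :=
    Algebra.FiniteType.of_surjective (Ideal.Quotient.mkₐ k _) Ideal.Quotient.mk_surjective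
  have hfin : Module.Finite k (Root p a) := Algebra.IsIntegral.finite
  obtain ⟨hloc, hreg⟩ := regular_iff (A := k) p (CharP.cast_eq_zero k p) a
  haveI := hloc
  have hli : LinearIndependent (ResidueField k)
      (fun i => (1 : ResidueField k) ⊗ₜ[k] KaehlerDifferential.D ℤ k (a i)) :=
    Module.Flat.linearIndependent_one_tmul ha
  haveI : IsRegularRing (Root p a) := hreg.mpr hli
  haveI : IsRegularLocalRing (Root p a) := IsRegularLocalRing.of_isRegularRing_of_isLocalRing _
  haveI : IsArtinianRing (Root p a) := IsArtinianRing.of_finite k _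
  have h1 := (isRegularLocalRing_iff (Root p a)).mp inferInstance
  have h2 : ringKrullDim (Root p a) ≤ 0 := Ring.krullDimLE_iff.mp inferInstance
  rw [← h1] at h2
  have h3 : (maximalIdeal (Root p a)).spanFinrank = 0 := Nat.le_zero.mp (by exact_mod_cast h2)
  exact ⟨IsLocalRing.isField_iff_maximalIdeal_eq.mpr
    ((Submodule.spanFinrank_eq_zero_iff_eq_bot (IsNoetherian.noetherian _)).mp h3), hfin⟩

set_option backward.isDefEq.respectTransparency false in
/-- Base change of `k[T]/(T^p - a)`. -/
def rootTensorEquiv (p : ℕ) {r : ℕ} (a : Fin r → k) :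
    (Root p a ⊗[k] A) ≃ₐ[k] MvPolynomial (Fin r) A ⧸
      Ideal.span (Set.range fun i => MvPolynomial.X i ^ p - MvPolynomial.C (algebraMap k A (a i))) :=
  let I := Ideal.span (Set.range fun i => MvPolynomial.X i ^ p - MvPolynomial.C (algebraMap k A (a i)))
  let φ : MvPolynomial (Fin r) k →ₐ[k] MvPolynomial (Fin r) A ⧸ I :=
    MvPolynomial.aeval fun i => Ideal.Quotient.mk I (MvPolynomial.X i)
  let ψ : Root p a →ₐ[k] MvPolynomial (Fin r) A ⧸ I := Ideal.Quotient.liftₐ _ φ fun x hx => by
    refine (Ideal.span_le (I := RingHom.ker φ)).mpr ?_ hx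
    rintro _ ⟨i, rfl⟩
    show φ (MvPolynomial.X i ^ p - MvPolynomial.C (a i)) = 0
    rw [map_sub, map_pow, MvPolynomial.aeval_X, MvPolynomial.aeval_C, ← map_pow,
      show algebraMap k (MvPolynomial (Fin r) A ⧸ I) (a i) =
        Ideal.Quotient.mk I (MvPolynomial.C (algebraMap k A (a i))) from rfl, ← map_sub,
      Ideal.Quotient.eq_zero_iff_mem]
    exact Ideal.subset_span ⟨i, rfl⟩
  let g : A →ₐ[k] MvPolynomial (Fin r) A ⧸ I := IsScalarTower.toAlgHom k A _
  let F : Root p a ⊗[k] A →ₐ[k] MvPolynomial (Fin r) A ⧸ I :=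
    Algebra.TensorProduct.lift ψ g fun _ _ => Commute.all _ _
  let θ : MvPolynomial (Fin r) A →ₐ[k] Root p a ⊗[k] A :=
    MvPolynomial.aevalTower Algebra.TensorProduct.includeRight fun i =>
      (Ideal.Quotient.mk _ (MvPolynomial.X i) : Root p a) ⊗ₜ[k] (1 : A)
  let G : (MvPolynomial (Fin r) A ⧸ I) →ₐ[k] Root p a ⊗[k] A := Ideal.Quotient.liftₐ I θ fun x hx => by
    refine (Ideal.span_le (I := RingHom.ker θ)).mpr ?_ hx
    rintro _ ⟨i, rfl⟩
    show θ (MvPolynomial.X i ^ p - MvPolynomial.C (algebraMap k A (a i))) = 0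
    rw [map_sub θ, show θ (MvPolynomial.X i ^ p) = θ (MvPolynomial.X i) ^ p from θ.toRingHom.map_pow _ _, show θ (MvPolynomial.X i) = _ from MvPolynomial.aevalTower_X _ _ _,
      show θ (MvPolynomial.C (algebraMap k A (a i))) = _ from MvPolynomial.aevalTower_C _ _ _,
      Algebra.TensorProduct.tmul_pow, one_pow, AlgHom.commutes,
      Algebra.TensorProduct.algebraMap_apply, sub_eq_zero]
    congr 1
    rw [← map_pow]
    exact Ideal.Quotient.eq.mpr (Ideal.subset_span ⟨i, rfl⟩)
  AlgEquiv.ofAlgHom F G
    (Ideal.Quotient.algHom_ext k (AlgHom.ext fun x => by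
      show F (θ x) = Ideal.Quotient.mk I x
      induction x using MvPolynomial.induction_on with
      | C c => simp [θ, F, g]; rfl
      | add x y hx hy => rw [map_add, map_add, hx, hy, map_add]
      | mul_X x i hx =>
        rw [map_mul, map_mul, hx, map_mul]
        simp [θ, F, ψ, φ]))
    (Algebra.TensorProduct.ext (Ideal.Quotient.algHom_ext k (MvPolynomial.algHom_ext fun i => by
      show G (F (Ideal.Quotient.mk _ (MvPolynomial.X i) ⊗ₜ[k] (1 : A))) = Ideal.Quotient.mk _ (MvPolynomial.X i) ⊗ₜ[k] (1 : A)
      rw [show F (Ideal.Quotient.mk _ (MvPolynomial.X i) ⊗ₜ[k] (1 : A)) = φ (MvPolynomial.X i) * g 1 from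
        Algebra.TensorProduct.lift_tmul _ _ _ _ _, show g 1 = 1 from g.toRingHom.map_one, mul_one,
        show φ (MvPolynomial.X i) = Ideal.Quotient.mk I (MvPolynomial.X i) from MvPolynomial.aeval_X _ _]
      exact MvPolynomial.aevalTower_X _ _ _)) (AlgHom.ext fun x => by
      show G (F (1 ⊗ₜ x)) = 1 ⊗ₜ x
      simp only [F, Algebra.TensorProduct.lift_tmul, map_one, one_mul]
      show θ (MvPolynomial.C x) = _
      simp [θ]))

theorem linearIndependent_of_regular [IsRegularLocalRing A] (p : ℕ) [hp : Fact p.Prime] [CharP k p]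
    {r : ℕ} (a : Fin r → k) (ha : LinearIndependent k (fun i => KaehlerDifferential.D ℤ k (a i)))
    (H : ∀ (k' : Type u) [Field k'] [Algebra k k'], Module.Finite k k' →
      (∀ x : k', x ^ p ∈ (algebraMap k k').range) → IsRegularRing (k' ⊗[k] A)) :
    LinearIndependent (ResidueField A)
      (fun i => (1 : ResidueField A) ⊗ₜ[A] KaehlerDifferential.D ℤ A (algebraMap k A (a i))) := by
  obtain ⟨hF, hfin⟩ := isField_root p a ha
  letI := hF.toField
  haveI := H (Root p a) hfin (pow_mem_range p a)
  have hpA : (p : A) = 0 := by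
    rw [← map_natCast (algebraMap k A), CharP.cast_eq_zero, map_zero]
  exact (regular_iff p hpA fun i => algebraMap k A (a i)).2.mp
    (IsRegularRing.of_ringEquiv (rootTensorEquiv (A := A) p a).toRingEquiv)

/-- Radicial finite base change of an adically formally smooth local algebra is regular. -/
theorem isRegularRing_baseChange [IsLocalRing A] [IsNoetherianRing A] (p : ℕ) [hp : ExpChar k p]
    (h : CAlgX.IsAdicFormallySmooth k A (maximalIdeal A)) (k' : Type u) [Field k'] [Algebra k k']
    [Module.Finite k k'] (hk' : ∀ x : k', x ^ p ∈ (algebraMap k k').range) :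
    IsRegularRing (k' ⊗[k] A) := by
  letI : Algebra A (k' ⊗[k] A) := Algebra.TensorProduct.rightAlgebra
  haveI : Module.Finite A (A ⊗[k] k') := inferInstance
  haveI hfin : Module.Finite A (k' ⊗[k] A) :=
    Module.Finite.equiv ({ Algebra.TensorProduct.comm k A k' with
      map_smul' := fun c x => by
        induction x using TensorProduct.induction_on with
        | zero => simp
        | tmul y z => simp [TensorProduct.smul_tmul', Algebra.smul_def, RingHom.algebraMap_toAlgebra]
        | add x y hx hy =>
          simp only [AlgEquiv.toEquiv_eq_coe, Equiv.toFun_as_coe, EquivLike.coe_coe, smul_add, map_add, RingHom.id_apply] at hx hy ⊢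
          exact congrArg₂ (· + ·) hx hy } :
      (A ⊗[k] k') ≃ₗ[A] (k' ⊗[k] A))
  haveI : Algebra.IsIntegral A (k' ⊗[k] A) := Algebra.IsIntegral.of_finite A _
  haveI : IsNoetherianRing (k' ⊗[k] A) := IsNoetherianRing.of_finite A (k' ⊗[k] A)
  set B := k' ⊗[k] A
  haveI : Nontrivial B := by
    haveI : Module.FaithfullyFlat k k' := inferInstance
    infer_instance
  haveI : ExpChar B p := expChar_of_injective_algebraMap (algebraMap k B).injective p
  have hpow : ∀ b : B, b ^ p ∈ (algebraMap A B).range := by
    intro b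
    induction b using TensorProduct.induction_on with
    | zero => exact ⟨0, by rw [map_zero, zero_pow (expChar_pos B p).ne']⟩
    | tmul x y =>
      obtain ⟨c, hc⟩ := hk' x
      refine ⟨c • y ^ p, ?_⟩
      rw [Algebra.TensorProduct.tmul_pow, ← hc]
      show (1 : k') ⊗ₜ[k] (c • y ^ p) = _
      rw [TensorProduct.tmul_smul, TensorProduct.smul_tmul', Algebra.algebraMap_eq_smul_one]
    | add x y hx hy => rw [add_pow_expChar]; exact add_mem hx hy
  have hcomap : ∀ Q : Ideal B, Q.IsMaximal → Q.comap (algebraMap A B) = maximalIdeal A := fun Q hQ =>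
    IsLocalRing.eq_maximalIdeal (Ideal.isMaximal_comap_of_isIntegral_of_isMaximal Q)
  have hpos := expChar_pos B p
  have hmem : ∀ Q : Ideal B, Q.IsMaximal → ∀ (b : B) (a : A), algebraMap A B a = b ^ p →
      (b ∈ Q ↔ a ∈ maximalIdeal A) := fun Q hQ b a e => by
    rw [← hcomap Q hQ, Ideal.mem_comap, e]
    exact ⟨fun hb => Ideal.pow_mem_of_mem Q hb p hpos, fun hb => hQ.isPrime.mem_of_pow_mem p hb⟩
  haveI hloc : IsLocalRing B := by
    obtain ⟨Q, hQ⟩ := Ideal.exists_maximal B
    refine IsLocalRing.of_unique_max_ideal ⟨Q, hQ, fun Q' hQ' => ?_⟩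
    ext b
    obtain ⟨a, ha⟩ := hpow b
    rw [hmem Q' hQ' b a ha, hmem Q hQ b a ha]
  have hinc : ∀ a ∈ maximalIdeal A, algebraMap A B a ∈ maximalIdeal B := fun a ha => by
    have := hcomap _ (maximalIdeal.isMaximal B)
    rw [← this] at ha
    exact ha
  have hFS : CAlgX.IsAdicFormallySmooth k' B (maximalIdeal B) := by
    intro C _ _ J hJ u ⟨m, hm⟩
    letI : Algebra k C := ((algebraMap k' C).comp (algebraMap k k')).toAlgebra
    haveI : IsScalarTower k k' C := .of_algebraMap_eq' rfl
    obtain ⟨v, hv⟩ := h C J hJ ((u.restrictScalars k).comp Algebra.TensorProduct.includeRight)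
      ⟨m, fun x hx => hm _ (by
        have h1 : (maximalIdeal A ^ m).map (algebraMap A B) ≤ maximalIdeal B ^ m := by
          rw [Ideal.map_pow]
          exact Ideal.pow_right_mono (Ideal.map_le_iff_le_comap.mpr hinc) m
        exact h1 (Ideal.mem_map_of_mem _ hx))⟩
    refine ⟨Algebra.TensorProduct.lift (Algebra.ofId k' C) v (fun _ _ => Commute.all _ _),
      Algebra.TensorProduct.ext' fun c b => ?_⟩
    show Ideal.Quotient.mk J (Algebra.TensorProduct.lift (Algebra.ofId k' C) v
      (fun _ _ => Commute.all _ _) (c ⊗ₜ b)) = u (c ⊗ₜ b)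
    have h1 : Ideal.Quotient.mk J (v b) = u (1 ⊗ₜ b) := DFunLike.congr_fun hv b
    rw [Algebra.TensorProduct.lift_tmul, map_mul, h1,
      show c ⊗ₜ[k] b = algebraMap k' B c * (1 ⊗ₜ b) by
        simp [B, Algebra.TensorProduct.algebraMap_apply], map_mul, u.commutes]
    rfl
  haveI : IsRegularLocalRing B := (Groth.Agent.S2471.result.mp hFS).1
  exact Groth.Agent.RegLoc.Homological.isRegularRing

/-- EGA 0_IV 22.5.8. -/
theorem isAdicFormallySmooth_iff [IsLocalRing A] [IsNoetherianRing A] (p : ℕ) [hp : ExpChar k p] :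
    CAlgX.IsAdicFormallySmooth k A (maximalIdeal A) ↔
      ∀ (k' : Type u) [Field k'] [Algebra k k'], Module.Finite k k' →
        (∀ x : k', x ^ p ∈ (algebraMap k k').range) → IsRegularRing (k' ⊗[k] A) := by
  refine ⟨fun h k' _ _ _ hk' => isRegularRing_baseChange p h k' hk', fun H => ?_⟩
  haveI : IsRegularRing (k ⊗[k] A) := H k inferInstance fun x => ⟨x ^ p, rfl⟩
  haveI : IsRegularRing A := IsRegularRing.of_ringEquiv (Algebra.TensorProduct.lid k A).toRingEquiv
  haveI : IsRegularLocalRing A := IsRegularLocalRing.of_isRegularRing_of_isLocalRing A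
  refine Groth.Agent.S2471.result.mpr ⟨inferInstance, injective_of_linearIndependent fun r a ha => ?_⟩
  cases hp with
  | zero => exact linearIndependent_of_charZero a ha
  | prime hq =>
    haveI := Fact.mk hq
    exact linearIndependent_of_regular p a ha H

end Groth.Agent.AdicFS.PRadical
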