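import Groth.Agent.RegLoc.Basic
import Mathlib

/-!
# Regular systems of parameters are independent modulo `m²`
-/

set_option autoImplicit false
universe u

open IsLocalRing

namespace Groth.Agent.AdicFS.RegParams

variable {R : Type*} [CommRing R] [IsRegularLocalRing R]

/-- If a family of `dim R` elements generates `m`, its classes form a basis of `m/m²`. -/
theorem mem_of_sum_mem_sq {ι : Type*} [Fintype ι] {n : ℕ} (hn : ringKrullDim R = n)
    (hcard : Fintype.card ι = n) (x : ι → R) (hx : Ideal.span (Set.range x) = maximalIdeal R) (c : ι → R)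
    (hsum : ∑ i, c i * x i ∈ maximalIdeal R ^ 2) (i : ι) : c i ∈ maximalIdeal R := by
  classical
  have hm : ∀ j, x j ∈ maximalIdeal R := fun j => hx ▸ Ideal.subset_span ⟨j, rfl⟩
  let v : ι → CotangentSpace R := fun j => (maximalIdeal R).toCotangent ⟨x j, hm j⟩
  have hrange : ⊤ ≤ Submodule.span (ResidueField R) (Set.range v) := by
    intro y _
    obtain ⟨⟨y, hy⟩, rfl⟩ := (maximalIdeal R).toCotangent_surjective y
    obtain ⟨a, ha⟩ := Ideal.mem_span_range_iff_exists_fun.mp (hx.ge hy)
    have he : (⟨y, hy⟩ : maximalIdeal R) = ∑ j, a j • ⟨x j, hm j⟩ := by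
      ext; simp [← ha]
    rw [he, map_sum]
    refine sum_mem fun j _ => ?_
    rw [map_smul, ← IsScalarTower.algebraMap_smul (ResidueField R) (a j)]
    exact Submodule.smul_mem _ _ (Submodule.subset_span ⟨j, rfl⟩)
  have hli : LinearIndependent (ResidueField R) v := by
    refine linearIndependent_of_top_le_span_of_card_eq_finrank hrange ?_
    rw [hcard, ← spanFinrank_maximalIdeal_eq_finrank_cotangentSpace, RegLoc.spanFinrank_eq_dim hn]
  have h0 : ∑ j, residue R (c j) • v j = 0 := by
    have h1 : (maximalIdeal R).toCotangent (∑ j, c j • ⟨x j, hm j⟩) = 0 :=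
      (Ideal.toCotangent_eq_zero _ _).mpr (by simpa using hsum)
    rw [map_sum] at h1
    simp only [map_smul] at h1
    simp only [← ResidueField.algebraMap_eq, IsScalarTower.algebraMap_smul]
    exact h1
  exact (residue_eq_zero_iff _).mp (Fintype.linearIndependent_iff.mp hli _ h0 i)

/-- For `I` with regular quotient in a regular local ring, `I ∩ m² = m I`. -/
theorem inf_sq_eq (I : Ideal R) [IsRegularLocalRing (R ⧸ I)] :
    I ⊓ maximalIdeal R ^ 2 = maximalIdeal R * I := by
  classical
  refine le_antisymm ?_ (le_inf Ideal.mul_le_right (by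
    rw [pow_two]; exact Ideal.mul_mono_right (RegLoc.le_maximalIdeal_of_isLocalRing_quotient I)))
  obtain ⟨n, hn, -⟩ := RegLoc.exists_natCast_eq_ringKrullDim R
  obtain ⟨s, t, hs, hst, hcard⟩ := RegLoc.exists_finset_span_eq_of_quotient hn I
  let x : s ⊕ t → R := Sum.elim Subtype.val Subtype.val
  have hx : Ideal.span (Set.range x) = maximalIdeal R := by
    rw [Set.Sum.elim_range, Ideal.span_union, ← hst]
    simp
  rintro z ⟨hzI, hz2⟩
  obtain ⟨a, ha⟩ := (Ideal.mem_span_range_iff_exists_fun (v := (Subtype.val : s → R))).mp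
    (show z ∈ Ideal.span (Set.range (Subtype.val : s → R)) by simpa using hs.ge hzI)
  let c : s ⊕ t → R := Sum.elim a 0
  have hc : ∑ i, c i * x i = z := by
    rw [Fintype.sum_sum_type]
    simp only [c, x, Sum.elim_inl, Sum.elim_inr, Pi.zero_apply, zero_mul, Finset.sum_const_zero, add_zero]
    exact ha
  rw [← ha]
  refine sum_mem fun j _ => Ideal.mul_mem_mul ?_ (hs ▸ Ideal.subset_span j.2)
  exact mem_of_sum_mem_sq hn (by simpa using hcard) x hx c (hc.symm ▸ hz2) (Sum.inl j)

end Groth.Agent.AdicFS.RegParams
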