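import Groth.Agent.AdicFS.Basic
import Groth.Agent.AdicFS.LiftComplete
import Groth.Agent.AdicFS.Jacobian
import Groth.Agent.FieldSep.Cartier
import Groth.Agent.FieldSep.Imperfection
import Groth.Agent.PSLoc.Basic
import Groth.Agent.S2471
import Mathlib

/-!
# Formally smooth local algebras with prescribed residue field (EGA 0_IV 22.2.6)
-/

set_option autoImplicit false
universe u

open IsLocalRing TensorProduct KaehlerDifferential

noncomputable section

namespace Groth.Agent.AdicFS.ResidueExt

variable {k A K : Type u} [Field k] [CommRing A] [IsLocalRing A] [Algebra k A] [Field K] [Algebra k K]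
  [Algebra A K] [IsScalarTower k A K]

theorem ker_eq (hsurj : Function.Surjective (algebraMap A K)) :
    RingHom.ker (algebraMap A K) = maximalIdeal A :=
  IsLocalRing.eq_maximalIdeal (RingHom.ker_isMaximal_of_surjective _ hsurj)

/-- The residue field is `A`-linearly any field onto which `A` surjects. -/
def residueEquiv (hsurj : Function.Surjective (algebraMap A K)) : ResidueField A ≃ₗ[A] K :=
  (Submodule.quotEquivOfEq (maximalIdeal A) (LinearMap.ker (Algebra.linearMap A K))
      (by ext x; rw [← ker_eq hsurj]; rfl)).trans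
    (LinearMap.quotKerEquivOfSurjective (Algebra.linearMap A K) hsurj)

theorem injective_baseChange_iff (hsurj : Function.Surjective (algebraMap A K)) :
    Function.Injective ((mapBaseChange ℤ k A).lTensor (ResidueField A)) ↔
      Function.Injective ((mapBaseChange ℤ k A).baseChange K) := by
  let e := residueEquiv hsurj
  have key : ∀ x, ((mapBaseChange ℤ k A).baseChange K) (LinearEquiv.rTensor _ e x) =
      LinearEquiv.rTensor _ e ((mapBaseChange ℤ k A).lTensor (ResidueField A) x) := by
    intro x
    induction x with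
    | zero => simp
    | add a b ha hb => simp only [map_add, ha, hb]
    | tmul c w => rfl
  constructor
  · intro h x y hxy
    obtain ⟨x, rfl⟩ := (LinearEquiv.rTensor _ e).surjective x
    obtain ⟨y, rfl⟩ := (LinearEquiv.rTensor _ e).surjective y
    rw [key, key] at hxy
    exact congrArg _ (h ((LinearEquiv.rTensor _ e).injective hxy))
  · intro h x y hxy
    refine (LinearEquiv.rTensor _ e).injective (h ?_)
    rw [key, key, hxy]

/-- `K ⊗ Ω_k → K ⊗ Ω_A`. -/
def phi : K ⊗[k] Ω[k⁄ℤ] →ₗ[K] K ⊗[A] Ω[A⁄ℤ] :=
  (mapBaseChange ℤ k A).baseChange K ∘ₗ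
    (AlgebraTensorModule.cancelBaseChange k A K K Ω[k⁄ℤ]).symm.toLinearMap

omit [IsLocalRing A] in
theorem mapBaseChange_phi :
    mapBaseChange ℤ k K = (mapBaseChange ℤ A K) ∘ₗ (phi : K ⊗[k] Ω[k⁄ℤ] →ₗ[K] K ⊗[A] Ω[A⁄ℤ]) := by
  rw [phi, ← LinearMap.comp_assoc, FieldSep.Imperfection.mapBaseChange_comp, LinearMap.comp_assoc,
    LinearEquiv.comp_symm, LinearMap.comp_id]

theorem finite_imperfection [IsNoetherianRing A] (hsurj : Function.Surjective (algebraMap A K))
    (h : CAlgX.IsAdicFormallySmooth k A (maximalIdeal A)) :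
    Module.Finite K (EGA41.imperfection ℤ k K) := by
  have hinj : Function.Injective (phi (k := k) (A := A) (K := K)) :=
    ((injective_baseChange_iff hsurj).mp (S2471.result.mp h).2).comp (LinearEquiv.injective _)
  haveI : Module.Finite A (RingHom.ker (algebraMap A K)).Cotangent :=
    Module.Finite.of_surjective (RingHom.ker (algebraMap A K)).toCotangent (Ideal.toCotangent_surjective _)
  haveI : Module.Finite A (((mapBaseChange ℤ A K).ker).restrictScalars A) := by
    rw [← range_kerCotangentToTensor ℤ A K hsurj]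
    infer_instance
  haveI : Module.Finite A (mapBaseChange ℤ A K).ker :=
    ‹Module.Finite A (((mapBaseChange ℤ A K).ker).restrictScalars A)›
  haveI : Module.Finite K (mapBaseChange ℤ A K).ker := Module.Finite.of_restrictScalars_finite A _ _
  haveI : IsNoetherian K (mapBaseChange ℤ A K).ker :=
    @isNoetherian_of_isNoetherianRing_of_finite K (mapBaseChange ℤ A K).ker _ (Submodule.addCommGroup _) _ _ _
  exact Module.Finite.of_injective
    ((phi (k := k) (A := A) (K := K)).restrict (p := EGA41.imperfection ℤ k K) (q := (mapBaseChange ℤ A K).ker)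
      (fun x hx => by
        rw [EGA41.imperfection, LinearMap.mem_ker, mapBaseChange_phi (A := A)] at hx
        exact hx))
    fun x y hxy => Subtype.ext (hinj (congrArg Subtype.val hxy))

theorem formallySmooth_of_detect [IsNoetherianRing A] [IsRegularLocalRing A]
    (hsurj : Function.Surjective (algebraMap A K)) {M : Type u} [AddCommGroup M] [Module K M] [Module A M]
    [IsScalarTower A K M] (g : K ⊗[k] Ω[k⁄ℤ] →ₗ[K] M)
    (hg : ∀ ω ∈ EGA41.imperfection ℤ k K, g ω = 0 → ω = 0) (δ : Derivation ℤ A M)
    (hδ : ∀ x, δ (algebraMap k A x) = g ((1 : K) ⊗ₜ[k] D ℤ k x)) :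
    CAlgX.IsAdicFormallySmooth k A (maximalIdeal A) := by
  refine S2471.result.mpr ⟨inferInstance, (injective_baseChange_iff hsurj).mpr ?_⟩
  let G : K ⊗[A] Ω[A⁄ℤ] →ₗ[K] M := LinearMap.liftBaseChange K δ.liftKaehlerDifferential
  have hG : G ∘ₗ phi = g := by
    refine LinearMap.ext fun x => ?_
    induction x with
    | zero => simp
    | add a b ha hb => simp only [map_add, ha, hb]
    | tmul c w =>
      have hw : w ∈ Submodule.span k (Set.range (D ℤ k)) := by rw [span_range_derivation]; trivial
      induction hw using Submodule.span_induction generalizing c with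
      | mem y hy =>
        obtain ⟨a, rfl⟩ := hy
        rw [LinearMap.comp_apply, phi, LinearMap.comp_apply, LinearEquiv.coe_coe,
          AlgebraTensorModule.cancelBaseChange_symm_tmul, LinearMap.baseChange_tmul, mapBaseChange_tmul,
          one_smul, map_D, LinearMap.liftBaseChange_tmul, Derivation.liftKaehlerDifferential_comp_D, hδ,
          ← map_smul, smul_tmul', smul_eq_mul, mul_one]
      | zero => simp
      | add y z _ _ hy hz => simp only [tmul_add, map_add, hy, hz]
      | smul a y _ hy => rw [← smul_tmul]; exact hy _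
  have hphi : Function.Injective (phi (k := k) (A := A) (K := K)) := by
    rw [injective_iff_map_eq_zero]
    intro ω hω
    refine hg ω ?_ ?_
    · rw [EGA41.imperfection, LinearMap.mem_ker, mapBaseChange_phi (A := A), LinearMap.comp_apply, hω, map_zero]
    · rw [← hG, LinearMap.comp_apply, hω, map_zero]
  intro x y hxy
  obtain ⟨x, rfl⟩ := (AlgebraTensorModule.cancelBaseChange k A K K Ω[k⁄ℤ]).symm.surjective x
  obtain ⟨y, rfl⟩ := (AlgebraTensorModule.cancelBaseChange k A K K Ω[k⁄ℤ]).symm.surjective y
  exact congrArg _ (hphi hxy)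

/-- The `k`-isomorphism of the residue field with `K`. -/
theorem nonempty_residue_equiv (hsurj : Function.Surjective (algebraMap A K)) :
    Nonempty (ResidueField A ≃ₐ[k] K) :=
  ⟨(Ideal.quotientEquivAlgOfEq k (ker_eq hsurj).symm).trans
    (Ideal.quotientKerAlgEquivOfSurjective (f := IsScalarTower.toAlgHom k A K) hsurj)⟩

omit [Field K] in
/-- A derivation of a field kills the prime field. -/
theorem derivation_prime {F M : Type u} [Field F] [AddCommGroup M] [Module F M] (d : Derivation ℤ F M)
    (x : (⊥ : Subfield F)) : d (x : F) = 0 := by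
  let S : Subfield F :=
    { carrier := {x | d x = 0}
      one_mem' := d.map_one_eq_zero
      zero_mem' := map_zero d
      add_mem' := fun {a b} ha hb => by
        show d (a + b) = 0
        rw [map_add, show d a = 0 from ha, show d b = 0 from hb, add_zero]
      neg_mem' := fun {a} ha => by show d (-a) = 0; rw [map_neg, show d a = 0 from ha, neg_zero]
      mul_mem' := fun {a b} ha hb => by
        show d (a * b) = 0
        rw [d.leibniz, show d a = 0 from ha, show d b = 0 from hb, smul_zero, smul_zero, add_zero]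
      inv_mem' := fun a ha => by
        show d a⁻¹ = 0
        rw [d.leibniz_inv, show d a = 0 from ha, smul_zero] }
  exact (bot_le : ⊥ ≤ S) x.2

open MvPowerSeries in
theorem coeff_one_mul {σ R : Type*} [CommRing R] [DecidableEq σ] (i : σ) (f g : MvPowerSeries σ R) :
    coeff (Finsupp.single i 1) (f * g) =
      constantCoeff f * coeff (Finsupp.single i 1) g + coeff (Finsupp.single i 1) f * constantCoeff g := by
  rw [MvPowerSeries.coeff_mul, Finsupp.antidiagonal_single, Finset.sum_map,
    show Finset.HasAntidiagonal.antidiagonal 1 = ({(0, 1), (1, 0)} : Finset (ℕ × ℕ)) from rfl]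
  simp [MvPowerSeries.coeff_zero_eq_constantCoeff_apply]

/-- A tuple of additive maps satisfying Leibniz is a derivation. -/
theorem exists_pi_derivation {ι : Type*} {S L : Type*} [CommRing S] [Field L] [Algebra S L] (c : ι → S →+ L)
    (hc : ∀ i a b, c i (a * b) = algebraMap S L a * c i b + c i a * algebraMap S L b) :
    ∃ δ : Derivation ℤ S (ι → L), ∀ f i, δ f i = c i f := by
  refine ⟨Derivation.mk' (LinearMap.pi fun i => (c i).toIntLinearMap) (fun a b => funext fun i => ?_),
    fun f i => rfl⟩
  simp only [Algebra.smul_def, Pi.add_apply, Pi.mul_apply, Pi.algebraMap_apply, LinearMap.pi_apply,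
    AddMonoidHom.coe_toIntLinearMap, hc]
  ring

set_option backward.isDefEq.respectTransparency false in
theorem exists_formallySmooth {k K : Type u} [Field k] [Field K] [Algebra k K] (n : ℕ)
    (g : K ⊗[k] Ω[k⁄ℤ] →ₗ[K] (Fin n → K)) (hg : ∀ ω ∈ EGA41.imperfection ℤ k K, g ω = 0 → ω = 0) :
    ∃ (A : Type u) (_ : CommRing A) (_ : IsLocalRing A) (_ : IsNoetherianRing A) (_ : Algebra k A),
      IsAdicComplete (maximalIdeal A) A ∧ CAlgX.IsAdicFormallySmooth k A (maximalIdeal A) ∧
        Nonempty (ResidueField A ≃ₐ[k] K) ∧ ringKrullDim A = n := by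
  classical
  let R := MvPowerSeries (Fin n) K
  let d : Fin n → Derivation ℤ k K := fun i =>
    (((LinearMap.proj i).comp g).restrictScalars k ∘ₗ TensorProduct.mk k K Ω[k⁄ℤ] 1).compDer (D ℤ k)
  let P := (⊥ : Subfield k)
  haveI : PerfectField P := FieldSep.Cartier.perfectField_bot k
  haveI : Algebra.FormallySmooth P k := FieldSep.Cartier.formallySmooth_of_perfectField P k
  set m := maximalIdeal R with hm
  have hmX : m = Ideal.span (Set.range (MvPowerSeries.X : Fin n → R)) := PSLoc.maximalIdeal_eq K
  haveI hcomp : IsAdicComplete m R := by rw [hmX]; infer_instance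
  let t : k → R := fun x => MvPowerSeries.C (algebraMap k K x) + ∑ i, MvPowerSeries.C (d i x) * MvPowerSeries.X i
  have hS : ∀ x, ∑ i, MvPowerSeries.C (d i x) * (MvPowerSeries.X i : R) ∈ m := fun x => by
    rw [hmX]
    exact sum_mem fun i _ => Ideal.mul_mem_left _ _ (Ideal.subset_span ⟨i, rfl⟩)
  have hmul : ∀ x y, t (x * y) - t x * t y ∈ m ^ 2 := fun x y => by
    have e : t (x * y) - t x * t y =
        -((∑ i, MvPowerSeries.C (d i x) * (MvPowerSeries.X i : R)) * ∑ i, MvPowerSeries.C (d i y) * MvPowerSeries.X i) := by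
      have e1 : ∑ i, MvPowerSeries.C (d i (x * y)) * (MvPowerSeries.X i : R) =
          MvPowerSeries.C (algebraMap k K x) * ∑ i, MvPowerSeries.C (d i y) * MvPowerSeries.X i +
          MvPowerSeries.C (algebraMap k K y) * ∑ i, MvPowerSeries.C (d i x) * MvPowerSeries.X i := by
        rw [Finset.mul_sum, Finset.mul_sum, ← Finset.sum_add_distrib]
        refine Finset.sum_congr rfl fun i _ => ?_
        rw [(d i).leibniz, Algebra.smul_def, Algebra.smul_def, map_add, map_mul, map_mul]
        ring
      simp only [t, e1, map_mul]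
      ring
    rw [e, pow_two]
    exact neg_mem (Ideal.mul_mem_mul (hS x) (hS y))
  have hP : ∀ p : P, t p = algebraMap P R p := fun p => by
    have h0 : ∀ i, d i (p : k) = 0 := fun i => derivation_prime (d i) p
    simp only [t, h0, map_zero, zero_mul, Finset.sum_const_zero, add_zero]
    rw [MvPowerSeries.algebraMap_apply, IsScalarTower.algebraMap_apply P k K]
    rfl
  let u : k →ₐ[P] R ⧸ m ^ 2 :=
    { toFun := fun x => Ideal.Quotient.mk _ (t x)
      map_one' := by simp [t]
      map_zero' := by simp [t]
      map_add' := fun x y => by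
        rw [← map_add]; congr 1
        simp only [t, map_add, add_mul, Finset.sum_add_distrib]
        ring
      map_mul' := fun x y => by rw [← map_mul, Ideal.Quotient.eq]; exact hmul x y
      commutes' := fun p => congrArg (Ideal.Quotient.mk _) (hP p) }
  haveI : IsHausdorff (m.map (Ideal.Quotient.mk (m ^ 2))) (R ⧸ m ^ 2) := ⟨fun x hx => by
    have h2 := hx 2
    rw [SModEq.zero, smul_eq_mul, Ideal.mul_top, ← Ideal.map_pow, Ideal.map_quotient_self] at h2
    exact (Submodule.mem_bot _).mp h2⟩
  obtain ⟨v, -, hv⟩ := LiftComplete.exists_lift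
    ((Basic.isFormallySmoothAdic_bot_iff (⊥ : Ideal k)).mpr (Basic.of_formallySmooth (A := P) ⊥)) m ⟨1, by rw [pow_one, Ideal.map_bot]; exact bot_le⟩ (m ^ 2)
    ⟨1, by rw [pow_one]; exact Ideal.pow_le_self two_ne_zero⟩ u ⟨1, by rw [pow_one, Ideal.map_bot]; exact bot_le⟩
  letI aRK : Algebra R K := (MvPowerSeries.constantCoeff : R →+* K).toAlgebra
  obtain ⟨δ, hδ⟩ := exists_pi_derivation (S := R) (L := K)
    (fun i => (MvPowerSeries.coeff (Finsupp.single i 1) : R →ₗ[K] K).toAddMonoidHom)
    (fun i a b => coeff_one_mul i a b)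
  have hsurj : Function.Surjective (algebraMap R K) := fun c => ⟨MvPowerSeries.C c, MvPowerSeries.constantCoeff_C c⟩
  have hker := ker_eq hsurj
  have hvt : ∀ x, v x - t x ∈ m ^ 2 := fun x => Ideal.Quotient.eq.mp (DFunLike.congr_fun hv x)
  have hv0 : ∀ x, algebraMap R K (v x) = algebraMap k K x := fun x => by
    have h1 : v x - t x ∈ RingHom.ker (algebraMap R K) := hker.ge (Ideal.pow_le_self two_ne_zero (hvt x))
    rw [RingHom.mem_ker, map_sub, sub_eq_zero] at h1
    rw [h1]
    show MvPowerSeries.constantCoeff (t x) = _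
    simp [t]
  have hm2 : ∀ z ∈ m ^ 2, δ z = 0 := fun z hz => by
    rw [pow_two] at hz
    refine Submodule.mul_induction_on hz (fun a ha b hb => ?_) fun a b ha hb => by rw [map_add, ha, hb, add_zero]
    funext i
    rw [hδ]
    show MvPowerSeries.coeff (Finsupp.single i 1) (a * b) = 0
    rw [coeff_one_mul, show MvPowerSeries.constantCoeff a = 0 from RingHom.mem_ker.mp (hker.ge ha),
      show MvPowerSeries.constantCoeff b = 0 from RingHom.mem_ker.mp (hker.ge hb), zero_mul, mul_zero, add_zero]
  have hv1 : ∀ x, δ (v x) = g ((1 : K) ⊗ₜ[k] D ℤ k x) := fun x => by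
    have h1 := hm2 _ (hvt x)
    rw [map_sub, sub_eq_zero] at h1
    rw [h1]
    funext i
    rw [hδ]
    show MvPowerSeries.coeff _ (t x) = d i x
    simp only [t, map_add, map_sum, MvPowerSeries.coeff_C_mul, MvPowerSeries.coeff_X, MvPowerSeries.coeff_C]
    simp [Finsupp.single_eq_single_iff]
  letI aKR : Algebra k R := v.toRingHom.toAlgebra
  haveI : IsScalarTower k R K := IsScalarTower.of_algebraMap_eq fun x => (hv0 x).symm
  haveI : IsRegularLocalRing R := PSLoc.isRegularLocalRing K n
  exact ⟨R, inferInstance, inferInstance, inferInstance, aKR, hcomp,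
    formallySmooth_of_detect hsurj g hg δ hv1, nonempty_residue_equiv hsurj, PSLoc.ringKrullDim_eq K n⟩

end Groth.Agent.AdicFS.ResidueExt
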