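import Groth.Agent.Nagata.CompleteLocal
import Mathlib

/-!
# Integral closures of Noetherian local domains are semi-local (EGA 0_IV 23.2.?)
-/

set_option autoImplicit false
set_option linter.style.haveILetI false
universe u

open IsLocalRing TensorProduct

noncomputable section

namespace Groth.Agent.AdicFS.SemiLocalIC

/-- Finitely many maximal ideals in a finite algebra over a local Noetherian ring. -/
theorem finite_setOf_isMaximal (C D : Type u) [CommRing C] [IsLocalRing C] [IsNoetherianRing C]
    [CommRing D] [Algebra C D] [Module.Finite C D] : {N : Ideal D | N.IsMaximal}.Finite := by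
  haveI : IsNoetherianRing D := IsNoetherianRing.of_finite C D
  haveI : Algebra.IsIntegral C D := Algebra.IsIntegral.of_finite C D
  refine (Ideal.finite_minimalPrimes_of_isNoetherianRing D ((maximalIdeal C).map (algebraMap C D))).subset
    fun N hN => ?_
  haveI : N.IsMaximal := hN
  refine ⟨⟨hN.isPrime, ?_⟩, fun q hq hle => ?_⟩
  · rw [Ideal.map_le_iff_le_comap]
    exact (IsLocalRing.eq_maximalIdeal (Ideal.isMaximal_comap_of_isIntegral_of_isMaximal N)).ge
  · haveI := hq.1
    have h1 : (q.comap (algebraMap C D)).IsMaximal :=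
      (IsLocalRing.maximalIdeal.isMaximal C).eq_of_le (Ideal.IsPrime.ne_top inferInstance)
        (Ideal.map_le_iff_le_comap.mp hq.2) ▸ IsLocalRing.maximalIdeal.isMaximal C
    exact ((Ideal.isMaximal_of_isIntegral_of_isMaximal_comap q h1).eq_of_le hN.ne_top hle).ge

variable {A K' C : Type u} [CommRing A] [IsDomain A] [IsLocalRing A] [IsNoetherianRing A]
  [Field K'] [Algebra A K'] [Algebra (FractionRing A) K'] [IsScalarTower A (FractionRing A) K']
  [FiniteDimensional (FractionRing A) K']
  [CommRing C] [IsLocalRing C] [IsNoetherianRing C] [IsAdicComplete (maximalIdeal C) C]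
  [Algebra A C] [IsLocalHom (algebraMap A C)]

set_option maxHeartbeats 1600000 in
open Classical in
/-- The main construction: finitely many maps into semi-local rings detecting all maximal ideals. -/
theorem exists_detect [Module.Flat A C] (hres : Function.Surjective ((residue C).comp (algebraMap A C))) :
    ∃ (ι : Type u) (_ : Finite ι) (D : ι → Type u) (_ : ∀ i, CommRing (D i)) (_ : ∀ i, Algebra C (D i))
      (_ : ∀ i, Module.Finite C (D i)) (g : ∀ i, integralClosure A K' →+* D i),
      (∀ i a, g i (algebraMap A (integralClosure A K') a) = algebraMap C (D i) (algebraMap A C a)) ∧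
      ∀ (n : Ideal (integralClosure A K')), n.IsMaximal → ∀ s : Finset (integralClosure A K'),
        ∃ (i : ι) (N : Ideal (D i)), N.IsMaximal ∧ ∀ x ∈ s, (g i x ∈ N ↔ x ∈ n) := by
  classical
  let T := C ⊗[A] K'
  haveI : Algebra.EssFiniteType A (FractionRing A) := Algebra.EssFiniteType.of_isLocalization _ (nonZeroDivisors A)
  haveI : Algebra.EssFiniteType A K' := Algebra.EssFiniteType.comp A (FractionRing A) K'
  haveI : IsNoetherianRing T := Algebra.EssFiniteType.isNoetherianRing C T
  haveI hfin : Finite (minimalPrimes T) := (minimalPrimes.finite_of_isNoetherianRing T).to_subtype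
  haveI hpr : ∀ P : minimalPrimes T, (P : Ideal T).IsPrime := fun P => P.2.1.1
  let L : minimalPrimes T → Type u := fun P => FractionRing (T ⧸ (P : Ideal T))
  let Cp : minimalPrimes T → Type u := fun P => C ⧸ (P : Ideal T).comap (algebraMap C T)
  letI aCp : ∀ P, Algebra (Cp P) (L P) := fun P => inferInstance
  haveI tow : ∀ P, IsScalarTower C (Cp P) (L P) := fun P => inferInstance
  haveI towA : ∀ P, IsScalarTower A (Cp P) (L P) := fun P => IsScalarTower.of_algebraMap_eq fun a => by
    rw [IsScalarTower.algebraMap_apply A C (Cp P), ← IsScalarTower.algebraMap_apply C (Cp P) (L P),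
      ← IsScalarTower.algebraMap_apply A C (L P)]
  have hinjCp : ∀ P, Function.Injective (algebraMap (Cp P) (L P)) := fun P => by
    rw [injective_iff_map_eq_zero]
    intro y hy
    obtain ⟨c, rfl⟩ := Ideal.Quotient.mk_surjective y
    rw [← Ideal.Quotient.algebraMap_eq, ← IsScalarTower.algebraMap_apply C (Cp P) (L P),
      IsScalarTower.algebraMap_apply C (T ⧸ (P : Ideal T)) (L P),
      map_eq_zero_iff _ (IsFractionRing.injective (T ⧸ (P : Ideal T)) (L P)),
      IsScalarTower.algebraMap_apply C T (T ⧸ (P : Ideal T)), Ideal.Quotient.algebraMap_eq,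
      Ideal.Quotient.eq_zero_iff_mem] at hy
    exact Ideal.Quotient.eq_zero_iff_mem.mpr (Ideal.mem_comap.mpr hy)
  haveI : ∀ P, FaithfulSMul (Cp P) (L P) := fun P => (faithfulSMul_iff_algebraMap_injective _ _).mpr (hinjCp P)
  letI : ∀ P, Algebra (FractionRing (Cp P)) (L P) := fun P => FractionRing.liftAlgebra (Cp P) (L P)
  haveI : ∀ P, IsScalarTower (Cp P) (FractionRing (Cp P)) (L P) := fun P =>
    FractionRing.isScalarTower_liftAlgebra (Cp P) (L P)
  -- `T → L P`
  let π : ∀ P, T →ₐ[C] L P := fun P => (IsScalarTower.toAlgHom C (T ⧸ (P : Ideal T)) (L P)).comp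
    (Ideal.Quotient.mkₐ C (P : Ideal T))
  have hπker : ∀ (P : minimalPrimes T) (t : T), π P t = 0 ↔ t ∈ (P : Ideal T) := fun P t =>
    (map_eq_zero_iff _ (IsFractionRing.injective (T ⧸ (P : Ideal T)) (L P))).trans Ideal.Quotient.eq_zero_iff_mem
  let g : ∀ P, K' →ₐ[A] L P := fun P => ((π P).restrictScalars A).comp Algebra.TensorProduct.includeRight
  have hfd : ∀ P, FiniteDimensional (FractionRing (Cp P)) (L P) := by
    intro P
    have hA : Function.Injective (algebraMap A (Cp P)) := by
      have h : Function.Injective (algebraMap A (L P)) := by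
        rw [← (g P).comp_algebraMap]
        refine (g P).toRingHom.injective.comp ?_
        rw [IsScalarTower.algebraMap_eq A (FractionRing A) K']
        exact (algebraMap (FractionRing A) K').injective.comp (IsFractionRing.injective A (FractionRing A))
      rw [IsScalarTower.algebraMap_eq A (Cp P) (L P), RingHom.coe_comp] at h
      exact Function.Injective.of_comp h
    have halg : ∀ x : K', IsIntegral (FractionRing (Cp P)) (g P x) := fun x => by
      have h1 : IsAlgebraic A x := (IsFractionRing.isAlgebraic_iff A (FractionRing A) K').mpr (Algebra.IsAlgebraic.isAlgebraic x)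
      have h2 : IsAlgebraic (Cp P) (g P x) := (h1.algHom (g P)).extendScalars hA
      exact (h2.extendScalars (IsFractionRing.injective (Cp P) (FractionRing (Cp P)))).isIntegral
    let b := Module.finBasis (FractionRing A) K'
    let W : IntermediateField (FractionRing (Cp P)) (L P) :=
      IntermediateField.adjoin _ (Set.range fun i => g P (b i))
    haveI : FiniteDimensional (FractionRing (Cp P)) W :=
      IntermediateField.finiteDimensional_adjoin fun x ⟨i, hi⟩ => hi ▸ halg _
    have hC : ∀ c : C, algebraMap C (L P) c ∈ W := fun c => by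
      rw [IsScalarTower.algebraMap_apply C (Cp P) (L P), IsScalarTower.algebraMap_apply (Cp P) (FractionRing (Cp P)) (L P)]
      exact W.algebraMap_mem _
    have hA' : ∀ a : A, algebraMap A (L P) a ∈ W := fun a => by
      rw [IsScalarTower.algebraMap_apply A C (L P)]; exact hC _
    have hg : ∀ x : K', g P x ∈ W := fun x => by
      rw [← b.sum_repr x, map_sum]
      refine sum_mem fun i _ => ?_
      rw [Algebra.smul_def, map_mul]
      refine mul_mem ?_ (IntermediateField.subset_adjoin _ _ ⟨i, rfl⟩)
      obtain ⟨a, s, -, hq⟩ := IsFractionRing.div_surjective (A := A) (b.repr x i)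
      rw [← hq, map_div₀, map_div₀, ← IsScalarTower.algebraMap_apply, ← IsScalarTower.algebraMap_apply,
        AlgHom.commutes, AlgHom.commutes]
      exact div_mem (hA' _) (hA' _)
    have hT : ∀ t : T, π P t ∈ W := fun t => by
      induction t using TensorProduct.induction_on with
      | zero => rw [map_zero]; exact zero_mem _
      | add a b ha hb => rw [map_add]; exact add_mem ha hb
      | tmul c x =>
        rw [show c ⊗ₜ[A] x = c • ((1 : C) ⊗ₜ[A] x) by rw [smul_tmul', smul_eq_mul, mul_one], map_smul,
          Algebra.smul_def]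
        exact mul_mem (hC c) (hg x)
    have htop : W = ⊤ := by
      refine eq_top_iff.mpr fun y _ => ?_
      obtain ⟨a, s, -, rfl⟩ := IsFractionRing.div_surjective (A := T ⧸ (P : Ideal T)) y
      obtain ⟨a, rfl⟩ := Ideal.Quotient.mk_surjective a
      obtain ⟨s, rfl⟩ := Ideal.Quotient.mk_surjective s
      exact div_mem (hT a) (hT s)
    exact Module.Finite.equiv ((IntermediateField.equivOfEq htop).trans IntermediateField.topEquiv).toLinearEquiv
  let D : minimalPrimes T → Type u := fun P => integralClosure (Cp P) (L P)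
  have hDfin : ∀ P, Module.Finite (Cp P) (D P) := fun P =>
    (Nagata.CompleteLocal.isNagata C).2 ((P : Ideal T).comap (algebraMap C T)) (L P) (hfd P)
  have hDC : ∀ P, Module.Finite C (D P) := fun P => by
    haveI := hDfin P
    haveI : Module.Finite C (Cp P) := Module.Finite.of_surjective (Algebra.linearMap C (Cp P)) Ideal.Quotient.mk_surjective
    exact Module.Finite.trans (Cp P) _
  -- integrality
  have hint : ∀ P (z : C ⊗[A] integralClosure A K'),
      π P (Algebra.TensorProduct.map (AlgHom.id C C) (integralClosure A K').val z) ∈ integralClosure (Cp P) (L P) := by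
    intro P z
    haveI : Algebra.IsIntegral C (C ⊗[A] integralClosure A K') := Algebra.IsIntegral.tensorProduct _ _ _
    exact ((Algebra.IsIntegral.isIntegral (R := C) z).map
      ((π P).comp (Algebra.TensorProduct.map (AlgHom.id C C) (integralClosure A K').val))).tower_top
  let h : ∀ P, C ⊗[A] integralClosure A K' →+* D P := fun P =>
    ((π P).comp (Algebra.TensorProduct.map (AlgHom.id C C) (integralClosure A K').val)).toRingHom.codRestrict _ (hint P)
  refine ⟨minimalPrimes T, hfin, D, inferInstance, inferInstance, hDC,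
    fun P => (h P).comp (Algebra.TensorProduct.includeRight (R := A) (A := C)).toRingHom, fun P a => ?_, ?_⟩
  · refine Subtype.ext ?_
    show π P (Algebra.TensorProduct.map (AlgHom.id C C) (integralClosure A K').val
      ((1 : C) ⊗ₜ[A] algebraMap A (integralClosure A K') a)) = algebraMap C (L P) (algebraMap A C a)
    rw [Algebra.TensorProduct.map_tmul, show (integralClosure A K').val (algebraMap A _ a) = algebraMap A K' a from rfl,
      ← IsScalarTower.algebraMap_apply A C (L P)]
    exact (g P).commutes a
  intro n hn s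
  let B := Algebra.adjoin A (s : Set (integralClosure A K'))
  haveI : Module.Finite A B := Algebra.finite_adjoin_of_finite_of_isIntegral s.finite_toSet
    (fun x _ => Algebra.IsIntegral.isIntegral x)
  haveI : n.IsMaximal := hn
  let nB := n.comap B.val.toRingHom
  haveI : Algebra.IsIntegral B (integralClosure A K') := Algebra.IsIntegral.tower_top A
  haveI hnB : nB.IsMaximal := Ideal.isMaximal_comap_of_isIntegral_of_isMaximal (R := B) n
  -- `C ⊗ B → B ⧸ nB`
  have hker : RingHom.ker ((residue C).comp (algebraMap A C)) = maximalIdeal A := by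
    ext a
    rw [RingHom.mem_ker, RingHom.comp_apply, residue_eq_zero_iff, mem_maximalIdeal, mem_maximalIdeal,
      mem_nonunits_iff, mem_nonunits_iff, isUnit_map_iff]
  have hmn : maximalIdeal A ≤ RingHom.ker (algebraMap A (B ⧸ nB)) := by
    rw [IsScalarTower.algebraMap_eq A B (B ⧸ nB), ← RingHom.comap_ker, Ideal.Quotient.algebraMap_eq, Ideal.mk_ker]
    haveI : Algebra.IsIntegral A B := Algebra.IsIntegral.of_finite A B
    exact (IsLocalRing.eq_maximalIdeal (Ideal.isMaximal_comap_of_isIntegral_of_isMaximal nB)).ge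
  let θ : ResidueField C →+* B ⧸ nB :=
    RingHom.liftOfSurjective ((residue C).comp (algebraMap A C)) hres ⟨algebraMap A (B ⧸ nB), hker ▸ hmn⟩
  have hθ : ∀ a, θ (residue C (algebraMap A C a)) = algebraMap A (B ⧸ nB) a := fun a =>
    RingHom.liftOfRightInverse_comp_apply _ _ _ ⟨algebraMap A (B ⧸ nB), hker ▸ hmn⟩ a
  let θ' : C →ₐ[A] B ⧸ nB := { toRingHom := θ.comp (residue C), commutes' := hθ }
  let r : C ⊗[A] B →ₐ[A] B ⧸ nB :=
    Algebra.TensorProduct.lift θ' (Ideal.Quotient.mkₐ A nB) fun x y => by obtain ⟨b, hb⟩ := Ideal.Quotient.mk_surjective (θ' x); rw [← hb]; exact (Commute.all b y).map (Ideal.Quotient.mk nB)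
  have hr : Function.Surjective r := fun y => by
    obtain ⟨b, rfl⟩ := Ideal.Quotient.mk_surjective y
    exact ⟨1 ⊗ₜ b, by simp [r]⟩
  letI := Ideal.Quotient.field nB
  let M := RingHom.ker r
  haveI hM : M.IsMaximal := RingHom.ker_isMaximal_of_surjective r hr
  -- a minimal prime of `T` below `M`
  let ψ : C ⊗[A] B →ₐ[C] T :=
    Algebra.TensorProduct.map (AlgHom.id C C) ((integralClosure A K').val.comp B.val)
  have hψ : Function.Injective ψ :=
    Module.Flat.lTensor_preserves_injective_linearMap (M := C) ((integralClosure A K').val.comp B.val).toLinearMap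
      (fun a b e => Subtype.ext (Subtype.ext e))
  obtain ⟨Q, hQ, hQM⟩ := Ideal.exists_minimalPrimes_le (bot_le : (⊥ : Ideal (C ⊗[A] B)) ≤ M)
  have hQ' : Q ∈ (Ideal.comap ψ.toRingHom ⊥).minimalPrimes := by
    rw [← RingHom.ker_eq_comap_bot, (RingHom.injective_iff_ker_eq_bot ψ.toRingHom).mp hψ]; exact hQ
  obtain ⟨P, hP, hPQ⟩ := Ideal.exists_minimalPrimes_comap_eq ψ.toRingHom Q hQ'
  let f : C ⊗[A] B →+* D ⟨P, hP⟩ := (h ⟨P, hP⟩).comp
    (Algebra.TensorProduct.map (AlgHom.id C C) B.val).toRingHom
  have hf : ∀ z, ((f z : D ⟨P, hP⟩) : L ⟨P, hP⟩) = π ⟨P, hP⟩ (ψ z) := fun z => by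
    show π ⟨P, hP⟩ (Algebra.TensorProduct.map (AlgHom.id C C) (integralClosure A K').val
      (Algebra.TensorProduct.map (AlgHom.id C C) B.val z)) = _
    congr 1
    induction z with
    | zero => simp
    | add a b ha hb => simp only [map_add, ha, hb]
    | tmul c b => rfl
  have hfC : f.comp (algebraMap C (C ⊗[A] B)) = algebraMap C (D ⟨P, hP⟩) := RingHom.ext fun c => by
    refine Subtype.ext ?_
    show ((f (algebraMap C _ c) : D ⟨P, hP⟩) : L ⟨P, hP⟩) = _
    rw [hf, AlgHom.commutes, AlgHom.commutes]
    rfl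
  have hfint : f.IsIntegral := by
    haveI := hDC ⟨P, hP⟩
    refine RingHom.IsIntegral.tower_top (algebraMap C (C ⊗[A] B)) f ?_
    rw [hfC]
    exact (Algebra.IsIntegral.of_finite C (D ⟨P, hP⟩)).isIntegral
  have hfker : RingHom.ker f ≤ M := fun z hz => by
    refine hQM (hPQ ▸ ?_)
    show ψ z ∈ P
    have := congrArg Subtype.val (RingHom.mem_ker.mp hz)
    rw [hf] at this
    exact (hπker ⟨P, hP⟩ _).mp this
  letI := f.toAlgebra
  haveI : Algebra.IsIntegral (C ⊗[A] B) (D ⟨P, hP⟩) := ⟨hfint⟩
  obtain ⟨N, hN, hNM⟩ := Ideal.exists_ideal_over_maximal_of_isIntegral (S := D ⟨P, hP⟩) M hfker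
  refine ⟨⟨P, hP⟩, N, hN, fun x hx => ?_⟩
  let xB : B := ⟨x, Algebra.subset_adjoin hx⟩
  have h1 : f ((1 : C) ⊗ₜ[A] xB) = h ⟨P, hP⟩ ((1 : C) ⊗ₜ[A] x) := rfl
  have h2 : ((1 : C) ⊗ₜ[A] xB ∈ M) ↔ x ∈ n := by
    show r _ = 0 ↔ _
    rw [Algebra.TensorProduct.lift_tmul, map_one, one_mul, Ideal.Quotient.mkₐ_eq_mk, Ideal.Quotient.eq_zero_iff_mem]
    rfl
  rw [← h2, ← hNM]
  exact (Iff.of_eq (congrArg (· ∈ N) h1)).symm

end Groth.Agent.AdicFS.SemiLocalIC
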