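import Groth.Agent.AdicFS.SymGr

/-!
# EGA 0_IV 19.5.4: adic formal smoothness for a formally smooth quotient
-/

universe u

noncomputable section

namespace Groth.Agent.AdicFS.SymGrCriterion

open Groth.Agent.SymGr Groth.Agent.AdicFS.SymGr

variable {A B : Type u} [CommRing A] [CommRing B] [Algebra A B] {J : Ideal B}

local notation "T₊" => Groth.Agent.SymGr.Basic.aug (B ⧸ J) (Ideal.Cotangent J)
local notation "J'" m:arg => Ideal.map (Ideal.Quotient.mk (J ^ m)) J

/-- The class in `J/J²` of an element of `J/J^m`. -/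
def cls {m : ℕ} (y : B ⧸ J ^ m) (hy : y ∈ J' m) : J.Cotangent :=
  J.toCotangent ⟨(exists_rep m hy).choose, (exists_rep m hy).choose_spec.1⟩

lemma cls_eq {m : ℕ} (hm : 2 ≤ m) {y : B ⧸ J ^ m} (hy : y ∈ J' m) {b : B} (hb : b ∈ J)
    (he : Ideal.Quotient.mk (J ^ m) b = y) : cls y hy = J.toCotangent ⟨b, hb⟩ := by
  rw [cls, Ideal.toCotangent_eq]
  exact Ideal.pow_le_pow_right hm (Ideal.Quotient.eq.mp ((exists_rep m hy).choose_spec.2.trans he.symm))

lemma cls_add {m : ℕ} (hm : 2 ≤ m) {y z : B ⧸ J ^ m} (hy : y ∈ J' m) (hz : z ∈ J' m) :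
    cls (y + z) (add_mem hy hz) = cls y hy + cls z hz := by
  obtain ⟨a, ha, rfl⟩ := exists_rep m hy
  obtain ⟨b, hb, rfl⟩ := exists_rep m hz
  rw [cls_eq hm _ (add_mem ha hb) (map_add _ a b), cls_eq hm hy ha rfl, cls_eq hm hz hb rfl, ← map_add]
  rfl

lemma cls_mul {m : ℕ} (hm : 2 ≤ m) {y : B ⧸ J ^ m} (hy : y ∈ J' m) (r : B) :
    cls (Ideal.Quotient.mk (J ^ m) r * y) (Ideal.mul_mem_left _ _ hy) =
      Ideal.Quotient.mk J r • cls y hy := by
  obtain ⟨a, ha, rfl⟩ := exists_rep m hy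
  rw [cls_eq hm _ (J.mul_mem_left r ha) (map_mul _ r a), cls_eq hm hy ha rfl,
    ← Ideal.Quotient.algebraMap_eq J, algebraMap_smul, ← map_smul]
  rfl

/-- The quotient has a section modulo every power. -/
theorem exists_section [Algebra.FormallySmooth A (B ⧸ J)] (m : ℕ) (hm : 1 ≤ m) :
    ∃ s : B ⧸ J →ₐ[A] B ⧸ J ^ m,
      ∀ b : B, s (Ideal.Quotient.mk J b) - Ideal.Quotient.mk (J ^ m) b ∈ J' m := by
  let fac := Ideal.Quotient.factorₐ A (Ideal.pow_le_self (I := J) (show m ≠ 0 by omega))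
  have hfac : Function.Surjective fac := fun c => by
    obtain ⟨b, rfl⟩ := Ideal.Quotient.mk_surjective c
    exact ⟨Ideal.Quotient.mk _ b, rfl⟩
  have hker : ∀ y, fac y = 0 → y ∈ J' m := fun y hy => by
    obtain ⟨b, rfl⟩ := Ideal.Quotient.mk_surjective y
    exact mk_mem_J' m (Ideal.Quotient.eq_zero_iff_mem.mp hy)
  have hn : IsNilpotent (RingHom.ker (fac : B ⧸ J ^ m →+* B ⧸ J)) := ⟨m, by
    rw [Ideal.zero_eq_bot, eq_bot_iff, ← map_pow_self (J := J) m]
    exact Ideal.pow_right_mono (fun y hy => hker y hy) m⟩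
  refine ⟨Algebra.FormallySmooth.liftOfSurjective (AlgHom.id A (B ⧸ J)) fac hfac hn, fun b => hker _ ?_⟩
  rw [map_sub, Algebra.FormallySmooth.liftOfSurjective_apply]
  exact sub_self _

/-- Existence of models. -/
theorem exists_model [Algebra.FormallySmooth A (B ⧸ J)] [Module.Projective (B ⧸ J) J.Cotangent]
    (l : ℕ) : Nonempty (Model A J l) := by
  obtain ⟨m, hm, hl⟩ : ∃ m, 2 ≤ m ∧ l ≤ m := ⟨l + 2, by omega, by omega⟩
  suffices h : Nonempty (Model A J m) by
    obtain ⟨M⟩ := h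
    exact ⟨M.factor l hl⟩
  obtain ⟨s, hs⟩ := exists_section (A := A) (J := J) m (by omega)
  letI : Algebra (B ⧸ J) (B ⧸ J ^ m) := s.toRingHom.toAlgebra
  haveI : IsScalarTower A (B ⧸ J) (B ⧸ J ^ m) := IsScalarTower.of_algebraMap_eq fun a => (s.commutes a).symm
  let P : Submodule (B ⧸ J) (B ⧸ J ^ m) := (J' m).restrictScalars (B ⧸ J)
  let g : P →ₗ[B ⧸ J] J.Cotangent :=
    { toFun := fun y => cls (y : B ⧸ J ^ m) y.2
      map_add' := fun y z => cls_add hm y.2 z.2
      map_smul' := fun c y => by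
        obtain ⟨r, rfl⟩ := Ideal.Quotient.mk_surjective c
        obtain ⟨⟨a, ha⟩, he⟩ : ∃ a : J, Ideal.Quotient.mk (J ^ m) a = s (Ideal.Quotient.mk J r) -
            Ideal.Quotient.mk (J ^ m) r := by
          obtain ⟨a, ha, he⟩ := exists_rep m (hs r)
          exact ⟨⟨a, ha⟩, he⟩
        have h1 : ((Ideal.Quotient.mk J r • y : P) : B ⧸ J ^ m) =
            Ideal.Quotient.mk (J ^ m) (r + a) * (y : B ⧸ J ^ m) := by
          rw [map_add, he]
          show s (Ideal.Quotient.mk J r) * (y : B ⧸ J ^ m) = _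
          ring
        simp only [h1, RingHom.id_apply]
        rw [cls_mul hm, map_add, Ideal.Quotient.eq_zero_iff_mem.mpr ha, add_zero] }
  have hg : Function.Surjective g := fun v => by
    obtain ⟨⟨x, hx⟩, rfl⟩ := J.toCotangent_surjective v
    exact ⟨⟨Ideal.Quotient.mk _ x, mk_mem_J' m hx⟩, cls_eq hm (mk_mem_J' m hx) hx rfl⟩
  obtain ⟨q, hq⟩ := Module.projective_lifting_property g LinearMap.id hg
  refine ⟨⟨(SymmetricAlgebra.lift (P.subtype ∘ₗ q)).restrictScalars A, fun b => ?_, fun x => ?_⟩⟩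
  · rw [AlgHom.restrictScalars_apply, AlgHom.commutes]
    exact hs b
  · rw [AlgHom.restrictScalars_apply, SymmetricAlgebra.lift_ι_apply]
    set y := q (J.toCotangent x)
    have h1 : cls (y : B ⧸ J ^ m) y.2 = J.toCotangent x := DFunLike.congr_fun hq (J.toCotangent x)
    obtain ⟨b, hb, he⟩ := exists_rep m y.2
    rw [cls_eq hm _ hb he, Ideal.toCotangent_eq] at h1
    show (y : B ⧸ J ^ m) - _ ∈ _
    rw [← he, ← map_sub, ← Ideal.map_pow]
    exact Ideal.mem_map_of_mem _ h1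

/-- EGA 0_IV 19.5.4, sufficiency. -/
theorem isAdicFormallySmooth_of_symGr [Algebra.FormallySmooth A (B ⧸ J)]
    [Module.Projective (B ⧸ J) J.Cotangent] (h : PP16.SymGrBijective B J) :
    CAlgX.IsAdicFormallySmooth A B J := by
  intro E _ _ I hI u ⟨k, hk⟩
  obtain ⟨M⟩ := exists_model (A := A) (J := J) (k + k)
  let u' : B ⧸ J ^ (k + k) →ₐ[A] E ⧸ I := Ideal.Quotient.liftₐ _ u fun x hx =>
    hk x (Ideal.pow_le_pow_right (by omega) hx)
  have hT := Basic.formallySmooth_symmetricAlgebra (B ⧸ J) J.Cotangent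
  have : Algebra.FormallySmooth A (SymmetricAlgebra (B ⧸ J) J.Cotangent) :=
    Algebra.FormallySmooth.comp A (B ⧸ J) _
  obtain ⟨w, hw⟩ := Algebra.FormallySmooth.comp_surjective A
    (SymmetricAlgebra (B ⧸ J) J.Cotangent) I hI (u'.comp M.π)
  have hwI : (T₊ ^ k).map w ≤ I := by
    rw [Ideal.map_le_iff_le_comap]
    intro t ht
    rw [Ideal.mem_comap, ← Ideal.Quotient.eq_zero_iff_mem]
    have h1 : Ideal.Quotient.mk I (w t) = u' (M.π t) := DFunLike.congr_fun hw t
    obtain ⟨b, hb, he⟩ := (Ideal.mem_map_iff_of_surjective _ Ideal.Quotient.mk_surjective).mp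
      ((Ideal.map_pow (Ideal.Quotient.mk (J ^ (k + k))) J k).symm ▸ M.mem_map_pow_iff.mpr ⟨t, ht, rfl⟩)
    rw [h1, ← he]
    exact hk b hb
  have hwker : ∀ t ∈ RingHom.ker M.π, w t = 0 := fun t ht => by
    rw [ker_eq_of_symGr h M, pow_add] at ht
    have h1 := Ideal.mem_map_of_mem w ht
    rw [Ideal.map_mul] at h1
    have h2 := Ideal.mul_mono hwI hwI h1
    rw [← pow_two, hI] at h2
    exact h2
  let e := Ideal.quotientKerAlgEquivOfSurjective M.surjective
  refine ⟨((Ideal.Quotient.liftₐ _ w hwker).comp e.symm.toAlgHom).comp (Ideal.Quotient.mkₐ A _), AlgHom.ext fun b => ?_⟩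
  obtain ⟨t, ht⟩ := M.surjective (Ideal.Quotient.mk _ b)
  show Ideal.Quotient.mk I (Ideal.Quotient.liftₐ _ w hwker (e.symm (Ideal.Quotient.mk _ b))) = u b
  rw [← ht, Ideal.quotientKerAlgEquivOfSurjective_symm_apply]
  show Ideal.Quotient.mk I (w t) = u b
  exact (DFunLike.congr_fun hw t).trans (congrArg u' ht)

/-- EGA 0_IV 19.5.4, necessity: the conormal module is projective. -/
theorem projective_cotangent (h : CAlgX.IsAdicFormallySmooth A B J)
    [Algebra.FormallySmooth A (B ⧸ J)] : Module.Projective (B ⧸ J) J.Cotangent := by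
  refine Module.Projective.of_lifting_property fun {N N'} _ _ _ _ f g hf => ?_
  letI : Module B N := Module.compHom N (Ideal.Quotient.mk J)
  letI : Module B N' := Module.compHom N' (Ideal.Quotient.mk J)
  haveI : IsScalarTower B (B ⧸ J) N := IsScalarTower.of_algebraMap_smul fun _ _ => rfl
  haveI : IsScalarTower B (B ⧸ J) N' := IsScalarTower.of_algebraMap_smul fun _ _ => rfl
  letI : Module A N := Module.compHom N (algebraMap A (B ⧸ J))
  letI : Module A N' := Module.compHom N' (algebraMap A (B ⧸ J))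
  haveI : IsScalarTower A (B ⧸ J) N := IsScalarTower.of_algebraMap_smul fun _ _ => rfl
  haveI : IsScalarTower A (B ⧸ J) N' := IsScalarTower.of_algebraMap_smul fun _ _ => rfl
  haveI : IsScalarTower A B N := IsScalarTower.of_algebraMap_smul fun _ _ => rfl
  haveI : IsScalarTower A B N' := IsScalarTower.of_algebraMap_smul fun _ _ => rfl
  obtain ⟨s, hs⟩ := exists_section (A := A) (J := J) 2 (by norm_num)
  have hy : ∀ b : B, Ideal.Quotient.mk (J ^ 2) b - s (Ideal.Quotient.mk J b) ∈ J' 2 := fun b => by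
    simpa using neg_mem (hs b)
  let d : B → N' := fun b => g (cls _ (hy b))
  have hcls : ∀ {y z : B ⧸ J ^ 2} (hy : y ∈ J' 2) (hz : z ∈ J' 2), y = z → cls y hy = cls z hz :=
    fun _ _ h => by subst h; rfl
  let dl : B →ₗ[A] N' :=
    { toFun := d
      map_add' := fun x y => by
        show g _ = g _ + g _
        rw [← map_add, ← cls_add le_rfl (hy x) (hy y)]
        exact congrArg g (hcls _ _ (by rw [map_add, map_add, map_add]; ring))
      map_smul' := fun a x => by
        show g _ = algebraMap A (B ⧸ J) a • g _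
        rw [← map_smul, IsScalarTower.algebraMap_apply A B (B ⧸ J), Ideal.Quotient.algebraMap_eq,
          ← cls_mul le_rfl (hy x)]
        refine congrArg g (hcls _ _ ?_)
        rw [Algebra.smul_def, map_mul, map_mul, map_mul, ← Ideal.Quotient.algebraMap_eq J,
          ← IsScalarTower.algebraMap_apply, AlgHom.commutes,
          IsScalarTower.algebraMap_apply A B (B ⧸ J ^ 2), Ideal.Quotient.algebraMap_eq]
        ring }
  let D' : Derivation A B N' := Derivation.mk' dl fun a b => by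
    show g _ = Ideal.Quotient.mk J a • g _ + Ideal.Quotient.mk J b • g _
    rw [← map_smul, ← map_smul, ← map_add, ← cls_mul le_rfl (hy b), ← cls_mul le_rfl (hy a),
      ← cls_add le_rfl]
    refine congrArg g (hcls _ _ ?_)
    have h0 : ∀ x ∈ J' 2, ∀ y ∈ J' 2, x * y = 0 := fun x hx y hy' => by
      have := Ideal.mul_mem_mul hx hy'
      rwa [← pow_two, map_pow_self, Ideal.mem_bot] at this
    have := h0 _ (hy a) _ (hy b)
    simp only [map_mul] at this ⊢
    linear_combination (norm := ring) -this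
  obtain ⟨D, hD⟩ := Deriv.exists_lift_over h (B ⧸ J) ⟨1, fun x hx => Ideal.Quotient.eq_zero_iff_mem.mpr (pow_one J ▸ hx)⟩ f hf D'
  have hJ2 : ∀ x ∈ J ^ 2, D x = 0 := fun x hx => by
    rw [pow_two] at hx
    refine Submodule.mul_induction_on hx (fun y hy' z hz => ?_) fun y z e1 e2 => by rw [map_add, e1, e2, add_zero]
    rw [D.leibniz]
    show Ideal.Quotient.mk J y • D z + Ideal.Quotient.mk J z • D y = 0
    rw [Ideal.Quotient.eq_zero_iff_mem.mpr hy', Ideal.Quotient.eq_zero_iff_mem.mpr hz, zero_smul,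
      zero_smul, add_zero]
  let DJ : J →ₗ[B] N :=
    { toFun := fun x => D x
      map_add' := fun x y => by simp
      map_smul' := fun b x => by
        show D (b * (x : B)) = b • D (x : B)
        rw [D.leibniz]
        show b • D (x : B) + Ideal.Quotient.mk J (x : B) • D b = _
        rw [Ideal.Quotient.eq_zero_iff_mem.mpr x.2, zero_smul, add_zero] }
  let Dc : J.Cotangent →ₗ[B] N := Submodule.liftQ _ DJ fun x hx => hJ2 x (by
    rw [← Ideal.mem_toCotangent_ker]
    exact (Submodule.Quotient.mk_eq_zero _).mpr hx)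
  refine ⟨Dc.extendScalarsOfSurjective Ideal.Quotient.mk_surjective, LinearMap.ext fun v => ?_⟩
  obtain ⟨x, rfl⟩ := J.toCotangent_surjective v
  show f (D x) = g (J.toCotangent x)
  rw [hD]
  refine congrArg g (cls_eq le_rfl (hy _) x.2 ?_)
  rw [Ideal.Quotient.eq_zero_iff_mem.mpr x.2, map_zero, sub_zero]

/-- Abstract kernel bound: a surjection onto `B/J^m` which is an isomorphism modulo squares. -/
theorem ker_le_pow {R : Type u} [CommRing R] [Algebra A R] {P : Ideal R}
    (h : CAlgX.IsAdicFormallySmooth A B J) {m : ℕ} (hm : 2 ≤ m) (π : R →ₐ[A] B ⧸ J ^ m)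
    (π₂ : R →ₐ[A] B ⧸ J ^ 2) (hπs : Function.Surjective π) (hπ₂s : Function.Surjective π₂)
    (hfac : ∀ t, π₂ t = Ideal.Quotient.factorₐ A (Ideal.pow_le_pow_right hm) (π t))
    (hker2 : RingHom.ker π₂ ≤ P ^ 2) (haug : ∀ t, π₂ t ∈ J' 2 → t ∈ P) :
    RingHom.ker π ≤ P ^ m := by
  -- the inverse of level two, lifted
  let mQ : R →+*
    (R ⧸ P ^ m) := Ideal.Quotient.mk _
  set J2 := (P ^ 2).map mQ with hJ2
  have hnil : IsNilpotent J2 := ⟨m, by
    rw [hJ2, ← Ideal.map_pow, Ideal.zero_eq_bot, Ideal.map_eq_bot_iff_le_ker, ← pow_mul]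
    exact le_trans (Ideal.pow_le_pow_right (by omega)) (le_of_eq Ideal.mk_ker.symm)⟩
  let ψ : R →ₐ[A] (R ⧸ P ^ m) ⧸ J2 := (Ideal.Quotient.mkₐ A J2).comp (Ideal.Quotient.mkₐ A (P ^ m))
  have hψ : ∀ t ∈ RingHom.ker π₂, ψ t = 0 := fun t ht =>
    Ideal.Quotient.eq_zero_iff_mem.mpr (Ideal.mem_map_of_mem _ (hker2 ht))
  let e := Ideal.quotientKerAlgEquivOfSurjective hπ₂s
  let u : B →ₐ[A] (R ⧸ P ^ m) ⧸ J2 :=
    ((Ideal.Quotient.liftₐ _ ψ hψ).comp e.symm.toAlgHom).comp (Ideal.Quotient.mkₐ A (J ^ 2))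
  have hu : ∀ b t, π₂ t = Ideal.Quotient.mk (J ^ 2) b → u b = ψ t := fun b t ht => by
    show Ideal.Quotient.liftₐ _ ψ hψ (e.symm (Ideal.Quotient.mk _ b)) = ψ t
    rw [← ht, Ideal.quotientKerAlgEquivOfSurjective_symm_apply]
    rfl
  obtain ⟨v, hv⟩ := AdicFS.Basic.exists_lift h J2 hnil u ⟨2, fun x hx => by
    rw [hu x 0 (by rw [map_zero, Ideal.Quotient.eq_zero_iff_mem.mpr hx]), map_zero]⟩
  have hvJ : ∀ b ∈ J, v b ∈ P.map mQ := fun b hb => by
    obtain ⟨t, ht⟩ := hπ₂s (Ideal.Quotient.mk _ b)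
    have h1 : Ideal.Quotient.mk J2 (v b) = Ideal.Quotient.mk J2 (mQ t) :=
      (DFunLike.congr_fun hv b).trans (hu b t ht)
    have h2 : mQ t ∈ P.map mQ := Ideal.mem_map_of_mem _ (haug t (ht ▸ mk_mem_J' 2 hb))
    have h3 : J2 ≤ P.map mQ := Ideal.map_mono (Ideal.pow_le_self two_ne_zero)
    simpa using add_mem (h3 (Ideal.Quotient.eq.mp h1)) h2
  have hvm : ∀ x ∈ J ^ m, v x = 0 := fun x hx => by
    have h1 : (J ^ m).map v ≤ (P.map mQ) ^ m := by
      rw [Ideal.map_pow]
      exact Ideal.pow_right_mono (Ideal.map_le_iff_le_comap.mpr hvJ) m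
    have h2 := h1 (Ideal.mem_map_of_mem v hx)
    rw [← Ideal.map_pow] at h2
    have h3 : (P ^ m).map mQ = ⊥ := Ideal.map_quotient_self _
    rw [h3] at h2
    exact h2
  let φ := (Ideal.Quotient.liftₐ _ v hvm).comp π
  have h2 : ∀ t, φ t - mQ t ∈ J2 := fun t => by
    obtain ⟨b, hb⟩ := Ideal.Quotient.mk_surjective (π t)
    rw [← Ideal.Quotient.eq]
    show Ideal.Quotient.mk J2 (Ideal.Quotient.liftₐ _ v hvm (π t)) = ψ t
    rw [← hb]
    refine (DFunLike.congr_fun hv b).trans (hu b t ?_)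
    rw [hfac, ← hb]
    rfl
  have hstep : ∀ i, ∀ t ∈ P ^ i, φ t - mQ t ∈ (P ^ (i + 1)).map mQ := by
    intro i
    induction i with
    | zero =>
      intro t _
      exact Ideal.map_mono (Ideal.pow_le_pow_right (show 0 + 1 ≤ 2 by norm_num)) (h2 t)
    | succ i ih =>
      intro t ht
      rw [pow_succ] at ht
      refine Submodule.mul_induction_on ht (fun a ha b hb => ?_) fun a b ha hb => by
        rw [map_add, map_add, add_sub_add_comm]; exact add_mem ha hb
      have ha' : φ a ∈ (P ^ i).map mQ := by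
        simpa using add_mem (Ideal.map_mono (Ideal.pow_le_pow_right i.le_succ) (ih a ha))
          (Ideal.mem_map_of_mem mQ ha)
      have e1 : φ a * (φ b - mQ b) ∈ (P ^ (i + 1 + 1)).map mQ := by
        rw [show i + 1 + 1 = i + 2 by ring, pow_add, Ideal.map_mul]
        exact Ideal.mul_mem_mul ha' (h2 b)
      have e2 : (φ a - mQ a) * mQ b ∈ (P ^ (i + 1 + 1)).map mQ := by
        rw [pow_succ _ (i + 1), Ideal.map_mul]
        exact Ideal.mul_mem_mul (ih a ha) (Ideal.mem_map_of_mem mQ hb)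
      convert add_mem e1 e2 using 1
      rw [map_mul, map_mul]
      ring
  intro t ht
  suffices ∀ i ≤ m, t ∈ P ^ i from this m le_rfl
  intro i hi
  induction i with
  | zero => simp
  | succ i ih =>
    have h1 := hstep i t (ih (by omega))
    rw [show φ t = 0 by show Ideal.Quotient.liftₐ _ v hvm (π t) = 0; rw [show π t = 0 from ht, map_zero],
      zero_sub, neg_mem_iff] at h1
    obtain ⟨t', ht', he⟩ := (Ideal.mem_map_iff_of_surjective mQ Ideal.Quotient.mk_surjective).mp h1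
    simpa using sub_mem ht' (Ideal.pow_le_pow_right hi (Ideal.Quotient.eq.mp he))


/-- EGA 0_IV 19.5.4, necessity: models have the expected kernels. -/
theorem exists_model_ker_le (h : CAlgX.IsAdicFormallySmooth A B J)
    [Algebra.FormallySmooth A (B ⧸ J)] (l : ℕ) : ∃ M : Model A J l, RingHom.ker M.π ≤ (T₊) ^ l := by
  have := projective_cotangent h
  obtain ⟨m, hm, hl⟩ : ∃ m, 2 ≤ m ∧ l ≤ m := ⟨l + 2, by omega, by omega⟩
  obtain ⟨M⟩ := exists_model (A := A) (J := J) m
  suffices hker : RingHom.ker M.π ≤ (T₊) ^ m by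
    refine ⟨M.factor l hl, fun t ht => ?_⟩
    obtain ⟨b, hb⟩ := Ideal.Quotient.mk_surjective (M.π t)
    have ht' : Ideal.Quotient.factorₐ A (Ideal.pow_le_pow_right hl) (M.π t) = 0 := ht
    rw [← hb] at ht'
    have hb' : b ∈ J ^ l := Ideal.Quotient.eq_zero_iff_mem.mp ht'
    have : M.π t ∈ (J' m) ^ l := by rw [← hb, ← Ideal.map_pow]; exact Ideal.mem_map_of_mem _ hb'
    obtain ⟨t', ht', he⟩ := M.mem_map_pow_iff.mp this
    have h1 := hker (show t - t' ∈ RingHom.ker M.π by rw [RingHom.mem_ker, map_sub, he, sub_self])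
    simpa using add_mem (Ideal.pow_le_pow_right hl h1) ht'
  -- level two
  let M₂ := M.factor 2 hm
  have haug : ∀ t, M₂.π t ∈ J' 2 → t ∈ T₊ := fun t ht => by
    obtain ⟨b, hb⟩ := Ideal.Quotient.mk_surjective (SymmetricAlgebra.algebraMapInv t)
    have h0 := Basic.sub_algebraMapInv_mem_span J.Cotangent t
    rw [← Basic.aug_eq_span] at h0
    have h1 := Ideal.mem_map_of_mem M₂.π h0
    rw [M₂.map_aug, map_sub, ← hb] at h1
    have h3 := sub_mem (sub_mem ht h1) (M₂.hC b)
    rw [sub_sub_cancel, sub_sub_cancel] at h3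
    obtain ⟨b', hb', he⟩ := exists_rep 2 h3
    show SymmetricAlgebra.algebraMapInv t = 0
    rw [← hb, Ideal.Quotient.eq_zero_iff_mem]
    simpa using sub_mem hb' (Ideal.pow_le_self two_ne_zero (Ideal.Quotient.eq.mp he))
  have hdeg1 : ∀ t ∈ T₊, ∃ v, t - SymmetricAlgebra.ι (B ⧸ J) J.Cotangent v ∈ (T₊) ^ 2 := by
    intro t h1
    rw [Basic.aug_eq_span] at h1
    induction h1 using Submodule.span_induction with
    | mem y hy => obtain ⟨v, rfl⟩ := hy; exact ⟨v, by rw [sub_self]; exact zero_mem _⟩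
    | zero => exact ⟨0, by simp⟩
    | add a b _ _ ha hb =>
      obtain ⟨v, hv⟩ := ha
      obtain ⟨w, hw⟩ := hb
      exact ⟨v + w, by rw [map_add, add_sub_add_comm]; exact add_mem hv hw⟩
    | smul c a hamem ha =>
      obtain ⟨v, hv⟩ := ha
      refine ⟨SymmetricAlgebra.algebraMapInv c • v, ?_⟩
      rw [map_smul, smul_eq_mul, Algebra.smul_def]
      have h2 : (c - algebraMap _ _ (SymmetricAlgebra.algebraMapInv c)) * a ∈ (T₊) ^ 2 := by
        rw [pow_two, Basic.aug_eq_span]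
        exact Ideal.mul_mem_mul (Basic.sub_algebraMapInv_mem_span _ c) hamem
      convert add_mem h2 (Ideal.mul_mem_left _ (algebraMap _ _ (SymmetricAlgebra.algebraMapInv c)) hv) using 1
      ring
  have hker2 : RingHom.ker M₂.π ≤ (T₊) ^ 2 := by
    intro t ht
    have h1 : t ∈ T₊ := haug t (by rw [show M₂.π t = 0 from ht]; exact zero_mem _)
    obtain ⟨v, hv⟩ := hdeg1 t h1
    obtain ⟨x, rfl⟩ := J.toCotangent_surjective v
    have h2 := M₂.pow_le_ker hv
    rw [RingHom.mem_ker, map_sub, show M₂.π t = 0 from ht, zero_sub, neg_eq_zero] at h2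
    have h3 := M₂.hι x
    rw [h2, zero_sub, neg_mem_iff, map_pow_self, Ideal.mem_bot, Ideal.Quotient.eq_zero_iff_mem,
      ← Ideal.toCotangent_eq_zero] at h3
    rwa [h3, map_zero, sub_zero] at hv
  exact ker_le_pow h hm M.π M₂.π M.surjective M₂.surjective (fun _ => rfl) hker2 haug

/-- **EGA 0_IV 19.5.4** -/
theorem isAdicFormallySmooth_iff (J : Ideal B) [Algebra.FormallySmooth A (B ⧸ J)] :
    CAlgX.IsAdicFormallySmooth A B J ↔
      (Module.Projective (B ⧸ J) J.Cotangent ∧ PP16.SymGrBijective B J) := by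
  refine ⟨fun h => ?_, fun ⟨_, h⟩ => isAdicFormallySmooth_of_symGr h⟩
  have := projective_cotangent h
  exact ⟨this, symGr_of_ker_eq (exists_model_ker_le h)⟩

end Groth.Agent.AdicFS.SymGrCriterion
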